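import Cfsg.Agent.DMult.Odd.Spin
import Cfsg.Agent.Classical.OrthPOmega

/-!
The Schur multiplier of `PΩ(2m+1, q)`, `q` odd, `(m, q) ≠ (3, 3)`.
-/

set_option autoImplicit false
set_option linter.unusedSectionVars false
set_option linter.unusedSimpArgs false

open scoped commutatorElement

namespace Cfsg.Agent.DMult

open Chev.Ortho
open Chev.Ortho.Odd (OB sh)
open CurtisTitsD (ok_of_lev lev_ne_of_ok)

universe u

section Gen

variable {F : Type u} [Field F] [Fintype F] {m : ℕ} {Γ : Type u} [Group Γ] [Finite Γ]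

/-- In a perfect extension the lifted root elements generate. -/
theorem GB_eq_top (B : BExt F m Γ) (hP : commutator Γ = ⊤) (hr : B.σ.range ≤ Odd.E F m 0) : B.GB = ⊤ := by
  have hle : Odd.E F m 0 ≤ B.GB.map B.σ := by
    refine sup_le ?_ ((Subgroup.closure_le _).2 ?_)
    · rw [Subgroup.map_le_iff_le_comap, Chev.Ortho.E, Subgroup.closure_le]
      rintro _ ⟨a, b, h, t, -, -, rfl⟩
      exact ⟨B.XL a b t, Subgroup.subset_closure ⟨t, Or.inl ⟨a, b, lev_ne_of_ok h, rfl⟩⟩, B.σ_XL h t⟩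
    · rintro _ ⟨a, t, -, rfl⟩
      exact ⟨B.Y a t, Subgroup.subset_closure ⟨t, Or.inr ⟨a, rfl⟩⟩, B.σ_Y a t⟩
  have hsplit : ∀ g : Γ, ∃ x ∈ B.GB, B.σ g = B.σ x := fun g => by
    obtain ⟨x, hx, e⟩ := hle (hr ⟨g, rfl⟩)
    exact ⟨x, hx, e.symm⟩
  refine top_le_iff.1 ?_
  rw [← hP, commutator_def, Subgroup.commutator_le]
  intro a _ b _
  obtain ⟨x, hx, ex⟩ := hsplit a
  obtain ⟨y, hy, ey⟩ := hsplit b
  rw [br_indep B.central ex ey, commutatorElement_def]
  exact mul_mem (mul_mem (mul_mem hx hy) (inv_mem hx)) (inv_mem hy)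

/-- A map of extensions respects the candidate kernel element. -/
theorem map_zzB {Γ' : Type u} [Group Γ'] [Finite Γ'] (B : BExt F m Γ) (B' : BExt F m Γ') (τ : Γ →* Γ')
    (hτ : ∀ x, B'.σ (τ x) = B.σ x) : τ B.zzB = B'.zzB := by
  let τD : B.DS →* B'.DS := (τ.comp B.DS.subtype).codRestrict B'.DS fun x => by
    obtain ⟨g, hg⟩ := x.2
    exact ⟨g, hg.trans (hτ _).symm⟩
  have hD : ∀ x, B'.D.σ (τD x) = B.D.σ x := fun x => BExt.emb_injective
    (((B'.emb_σD (τD x)).trans (hτ x)).trans (B.emb_σD x).symm)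
  exact congrArg Subtype.val (map_zz B.D B'.D τD hD)

end Gen

/-- The multiplier through a perfect cover with trivial multiplier. -/
theorem multiplier_of_cover {S G : Type u} [Group S] [Finite S] [Group G] (hS : commutator S = ⊤)
    (hM : Cfsg.HasCyclicSchurMultiplier S 1) (π : S →* G) (hπ : Cfsg.IsStemExtension π) {A : Type*}
    [CommGroup A] (e : π.ker ≃* A) : Cfsg.HasSchurMultiplier G A := by
  refine ⟨⟨S, inferInstance, inferInstance, π, hπ, ⟨e⟩⟩, fun Δ _ _ σ hσ => ?_⟩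
  obtain ⟨f, hf, hle⟩ := SLMult.lift_through_cover hS hM π hπ.1 σ hσ
  let g : π.ker →* σ.ker := (f.comp π.ker.subtype).codRestrict _ fun x => by
    show σ (f x) = 1
    rw [show σ (f x) = π (x : S) from DFunLike.congr_fun hf (x : S)]
    exact x.2
  refine ⟨g.comp e.symm.toMonoidHom, fun y => ?_⟩
  obtain ⟨x, hx, ex⟩ := hle y.2
  exact ⟨e ⟨x, hx⟩, Subtype.ext (by simp [g, ex])⟩

variable {F : Type u} [Field F] [Fintype F] {m : ℕ} (hm : 3 ≤ m) (h2 : (2 : F) ≠ 0)
  (hbig : 4 ≤ m ∨ ∃ c : F, c ≠ 0 ∧ c * c ≠ 1)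

local notation "SB" => OddSpin.ext F hm h2 hbig

theorem spinB_range : (OddSpin.σ (F := F) (m := m)).range ≤ Odd.E F m 0 := by
  rintro _ ⟨⟨p, hp⟩, rfl⟩
  have hle : OddSpin.G F m ≤ (Odd.E F m 0).comap (MonoidHom.fst _ _) := by
    rw [OddSpin.G, Subgroup.closure_le]
    rintro _ (⟨a, b, h, t, rfl⟩ | ⟨a, t, rfl⟩)
    · exact Odd.emb_mem (Chev.Ortho.el_mem h t (Nat.zero_le _) (Nat.zero_le _))
    · exact Odd.sh_mem (Nat.zero_le _) t
  exact hle hp

include hm h2 hbig in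
theorem spinB_ker {x : OddSpin.G F m} (h1 : OddSpin.σ x = 1) : x = 1 ∨ x = (SB).zzB :=
  (SB).GB_ker ((GB_eq_top (SB) (OddSpin.perfect hm h2 hbig) spinB_range).ge (Subgroup.mem_top x)) h1

include hm h2 hbig in
/-- The spin group has trivial multiplier. -/
theorem spinB_multiplier : Cfsg.HasCyclicSchurMultiplier (OddSpin.G F m) 1 := by
  refine ProjExt.Stem.hasCyclicSchurMultiplier_one fun Γ _ _ τ hτ => ?_
  have hPS := OddSpin.perfect hm h2 hbig
  have hP : commutator Γ = ⊤ := by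
    refine top_le_iff.1 fun g _ => ?_
    obtain ⟨d, hd, e⟩ : τ g ∈ (commutator Γ).map τ := by
      rw [commutator_def, Subgroup.map_commutator, Subgroup.map_top_of_surjective τ hτ.1, ← commutator_def, hPS]
      exact Subgroup.mem_top _
    have : d⁻¹ * g ∈ commutator Γ := hτ.2.2 (by rw [MonoidHom.mem_ker, map_mul, map_inv, e, inv_mul_cancel])
    simpa using mul_mem hd this
  have hc : (OddSpin.σ.comp τ).ker ≤ Subgroup.center Γ := fun x hx => by
    refine mem_center_of_comm hP fun y => hτ.2.1 ?_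
    rw [MonoidHom.mem_ker, map_commutatorElement, commutatorElement_eq_one_iff_commute]
    exact (Subgroup.mem_center_iff.1 (OddSpin.σ_ker_central hx) (τ y)).symm
  let B : BExt F m Γ :=
    { σ := OddSpin.σ.comp τ
      central := hc
      el_mem := fun a b h t => by
        obtain ⟨y, hy⟩ := hτ.1 (OddSpin.gL h t)
        exact ⟨y, congrArg OddSpin.σ hy⟩
      sh_mem := fun a t => by
        obtain ⟨y, hy⟩ := hτ.1 (OddSpin.gS a t)
        exact ⟨y, congrArg OddSpin.σ hy⟩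
      three := hm
      odd := h2
      big := hbig }
  have htop : B.GB = ⊤ := GB_eq_top B hP (by rintro _ ⟨x, rfl⟩; exact spinB_range ⟨τ x, rfl⟩)
  rw [eq_bot_iff]
  intro x hx
  rw [MonoidHom.mem_ker] at hx
  have h1 : B.σ x = 1 := by show OddSpin.σ (τ x) = 1; rw [hx, map_one]
  rcases B.GB_ker (htop.ge (Subgroup.mem_top x)) h1 with rfl | rfl
  · exact one_mem _
  · rw [map_zzB B (SB) τ (fun _ => rfl)] at hx
    exact absurd hx (OddSpin.zzB_ne_one hm h2 hbig)

include hm h2 in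
open Classical.Quad QuadraticMap in
theorem center_omega_odd : Subgroup.center (Cfsg.Omega F (Cfsg.quadFormOdd m F)) = ⊥ := by
  let Q : QuadraticForm F (Unit ⊕ (Fin m ⊕ Fin m) → F) := (hyp (sqForm F) m).comp (oddCoord (F := F) m).toLinearMap
  have hQe : ⇑Q = Cfsg.quadFormOdd m F := funext fun x => by simp [Q, oddCoord_map]
  have hQ : (polarBilin Q).Nondegenerate :=
    Iso.nondeg (Iso.symm ⟨oddCoord m, fun x => by simp [Q]⟩) (nondeg_hyp (nondeg_sqForm h2) m)
  have hfr : Module.finrank F (Unit ⊕ (Fin m ⊕ Fin m) → F) = 2 * m + 1 := by simp; omega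
  have hd : ¬ ∃ g : Cfsg.isometryGroup F ⇑Q, g ∈ Cfsg.Omega F ⇑Q ∧
      ((g : GL (Unit ⊕ (Fin m ⊕ Fin m)) F) : Matrix (Unit ⊕ (Fin m ⊕ Fin m)) (Unit ⊕ (Fin m ⊕ Fin m)) F) = -1 := by
    rintro ⟨g, hg, hg1⟩
    let δ : Cfsg.isometryGroup F ⇑Q →* Fˣ :=
      (Matrix.GeneralLinearGroup.det).comp (Cfsg.isometryGroup F ⇑Q).subtype
    have h : (δ g : F) = 1 := by
      rw [MonoidHom.mem_ker.1 (Abelianization.commutator_subset_ker δ hg)]; rfl
    have h' : ((g : GL (Unit ⊕ (Fin m ⊕ Fin m)) F) : Matrix (Unit ⊕ (Fin m ⊕ Fin m)) (Unit ⊕ (Fin m ⊕ Fin m)) F).det = 1 := h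
    rw [hg1, Matrix.det_neg, Matrix.det_one, mul_one,
      show Fintype.card (Unit ⊕ (Fin m ⊕ Fin m)) = 2 * m + 1 by simp; omega, pow_succ, pow_mul, neg_one_sq,
      one_pow, one_mul] at h'
    exact h2 (by linear_combination -h')
  have := Subgroup.eq_bot_of_card_eq _ ((card_center_omega hQ (by omega)).2 (Or.inl hd))
  rwa [hQe] at this

include hm h2 hbig in
/-- The multiplier of `PΩ(2m+1, q)`. -/
theorem multiplierB : Cfsg.HasCyclicSchurMultiplier (Cfsg.POmega F (Cfsg.quadFormOdd m F)) 2 := by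
  have hPS := OddSpin.perfect hm h2 hbig
  have hF : ∃ a : F, a ≠ 0 ∧ a ≠ 1 :=
    ⟨-1, neg_ne_zero.2 one_ne_zero, fun e => h2 (by linear_combination -e)⟩
  have hmem : ∀ x : OddSpin.G F m, OddSpin.σ x ∈ Cfsg.Omega F (Cfsg.quadFormOdd m F) := fun x => by
    show _ ∈ commutator (OB F m)
    rw [Odd.commutator_eq (by omega) hF]
    exact spinB_range ⟨x, rfl⟩
  let φ : OddSpin.G F m →* Cfsg.Omega F (Cfsg.quadFormOdd m F) := OddSpin.σ.codRestrict _ hmem
  have hsurj : Function.Surjective φ := by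
    rintro ⟨g, hg⟩
    have hg' : g ∈ commutator (OB F m) := hg
    rw [Odd.commutator_eq (by omega) hF] at hg'
    have hle : Odd.E F m 0 ≤ (OddSpin.σ (F := F) (m := m)).range := by
      refine sup_le ?_ ((Subgroup.closure_le _).2 ?_)
      · rw [Subgroup.map_le_iff_le_comap, Chev.Ortho.E, Subgroup.closure_le]
        rintro _ ⟨a, b, h, t, -, -, rfl⟩
        exact ⟨OddSpin.gL h t, rfl⟩
      · rintro _ ⟨a, t, -, rfl⟩
        exact ⟨OddSpin.gS a t, rfl⟩
    obtain ⟨x, hx⟩ := hle hg'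
    exact ⟨x, Subtype.ext hx⟩
  let π : OddSpin.G F m →* Cfsg.POmega F (Cfsg.quadFormOdd m F) := (QuotientGroup.mk' _).comp φ
  have hker : ∀ {x}, x ∈ π.ker ↔ OddSpin.σ x = 1 := fun {x} => by
    rw [MonoidHom.mem_ker]
    refine (QuotientGroup.eq_one_iff (N := Subgroup.center _) _).trans ?_
    rw [center_omega_odd hm h2, Subgroup.mem_bot]
    exact ⟨fun e => congrArg Subtype.val e, fun e => Subtype.ext e⟩
  have hπ : Cfsg.IsStemExtension π :=
    ⟨(QuotientGroup.mk'_surjective _).comp hsurj, fun x hx => OddSpin.σ_ker_central (hker.1 hx),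
      fun x _ => hPS.ge (Subgroup.mem_top x)⟩
  have hz : (SB).σ (SB).zzB = 1 := by
    rw [BExt.zzB, ← (SB).emb_σD]
    exact (congrArg Odd.emb (σ_zz (SB).D)).trans (map_one _)
  have hk : π.ker = Subgroup.zpowers (SB).zzB := by
    refine le_antisymm (fun x hx => ?_) (Subgroup.zpowers_le.2 (hker.2 hz))
    rcases spinB_ker hm h2 hbig (hker.1 hx) with rfl | rfl
    · exact one_mem _
    · exact Subgroup.mem_zpowers _
  have hord : orderOf (SB).zzB = 2 := orderOf_eq_prime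
    (by rw [pow_two]; exact congrArg Subtype.val (zz_mul_self (SB).D)) (OddSpin.zzB_ne_one hm h2 hbig)
  have hc : IsCyclic π.ker := by rw [hk]; infer_instance
  have hcard : Nat.card π.ker = 2 := by rw [hk, Nat.card_zpowers, hord]
  exact multiplier_of_cover hPS (spinB_multiplier hm h2 hbig) π hπ (hcard ▸ (zmodCyclicMulEquiv hc).symm)

end Cfsg.Agent.DMult
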