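import Cfsg.Agent.DMult.Nat
import Cfsg.Agent.Chev.Ortho.SplitOdd

/-!
Relations between the long and short root elements of the split odd-dimensional orthogonal group.
-/

set_option autoImplicit false
set_option linter.unusedSectionVars false
set_option linter.unusedSimpArgs false

open Matrix
open scoped commutatorElement

namespace Cfsg.Agent.DMult.OddGp

open Chev.Ortho
open Chev.Ortho.Odd (OB sh hy)
open CurtisTitsD (ok_of_lev lev_ne_of_ok)

universe u

variable {F : Type u} [Field F] {m : ℕ}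

local notation "I" => Fin m ⊕ Fin m

theorem hy_apply (x : Unit ⊕ (Fin m ⊕ Fin m) → F) (i : I) : hy x i = x (.inr i) := rfl

theorem emb_el_inl {a b : I} (h : Ok a b) (t : F) (x : Unit ⊕ (Fin m ⊕ Fin m) → F) :
    Odd.act (Odd.emb (el h t)) x (.inl ()) = x (.inl ()) := Odd.emb_inl _ _

theorem emb_el_inr {a b : I} (h : Ok a b) (t : F) (x : Unit ⊕ (Fin m ⊕ Fin m) → F) (i : I) :
    Odd.act (Odd.emb (el h t)) x (.inr i) =
      x (.inr i) + (if i = a then t * x (.inr (bar b)) else 0) -
        if i = b then t * x (.inr (bar a)) else 0 := by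
  show hy (Odd.act (Odd.emb (el h t)) x) i = _
  rw [Odd.hy_emb, el_apply]
  rfl

theorem sh_zero (a : I) : sh a (0 : F) = 1 :=
  Subtype.ext (Units.ext (Odd.shMat_zero a))

theorem sh_inv (a : I) (t : F) : (sh a t)⁻¹ = sh a (-t) :=
  inv_eq_of_mul_eq_one_right (by rw [Odd.sh_mul, add_neg_cancel, sh_zero])

theorem sh_apply_inl (a : I) (t : F) (x : Unit ⊕ (Fin m ⊕ Fin m) → F) :
    Odd.act (sh a t) x (.inl ()) = x (.inl ()) + t * x (.inr (bar a)) := Odd.sh_inl a t x

theorem sh_apply_inr (a : I) (t : F) (x : Unit ⊕ (Fin m ⊕ Fin m) → F) (i : I) :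
    Odd.act (sh a t) x (.inr i) = x (.inr i) -
      if i = a then 2 * t * x (.inl ()) + t ^ 2 * x (.inr (bar a)) else 0 := by
  simp [Odd.sh_apply]

/-- A long and a short root element commute. -/
theorem el_sh_comm {a b c : I} (h : Ok b c) (hb : bar b ≠ a) (hc : bar c ≠ a) (t u : F) :
    Commute (Odd.emb (el h t)) (sh a u) := by
  refine Odd.ext_act fun x => funext fun i => ?_
  rw [Odd.act_mul, Odd.act_mul]
  have hb' : bar a ≠ b := fun e => hb (by rw [← e, bar_bar])
  have hc' : bar a ≠ c := fun e => hc (by rw [← e, bar_bar])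
  rcases i with ⟨⟨⟩⟩ | i
  · simp [emb_el_inl, emb_el_inr, sh_apply_inl, sh_apply_inr, hb', hc']
  · simp only [emb_el_inl, emb_el_inr, sh_apply_inl, sh_apply_inr, hb', hc', hb, hc, if_false]
    split_ifs <;> ring

/-- The commutator of two short root elements. -/
theorem sh_rel {a b : I} (h : lev a ≠ lev b) (t u : F) :
    ⁅sh a t, sh b u⁆ = Odd.emb (el (ok_of_lev h) (-(2 * t * u))) := by
  rw [commutatorElement_def, mul_inv_eq_iff_eq_mul, mul_inv_eq_iff_eq_mul]
  refine Odd.ext_act fun x => funext fun i => ?_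
  rw [Odd.act_mul, Odd.act_mul, Odd.act_mul]
  have g1 : a ≠ b := fun e => h (by rw [e])
  have g2 : bar a ≠ b := fun e => h (by rw [← e, lev_bar])
  have g3 : bar b ≠ a := fun e => h (by rw [← e, lev_bar])
  rcases i with ⟨⟨⟩⟩ | i
  · simp [emb_el_inl, emb_el_inr, sh_apply_inl, sh_apply_inr, g1, g1.symm, g2, g3, bar_ne]
    ring
  · simp only [emb_el_inl, emb_el_inr, sh_apply_inl, sh_apply_inr, g2, g3, bar_ne, if_false, if_true]
    by_cases i1 : i = a
    · subst i1; simp [g1, g1.symm]; ring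
    by_cases i2 : i = b
    · subst i2; simp [g1, g1.symm]; ring
    simp [i1, i2]

/-- The commutator of a long and a short root element. -/
theorem el_sh_rel {a b : I} (h : lev a ≠ lev b) (u t : F) :
    ⁅Odd.emb (el (ok_of_lev (show lev a ≠ lev (bar b) by rwa [lev_bar])) u), sh b t⁆ =
      sh a (u * t) * Odd.emb (el (ok_of_lev h) (u * t ^ 2)) := by
  rw [commutatorElement_def, mul_inv_eq_iff_eq_mul, mul_inv_eq_iff_eq_mul]
  refine Odd.ext_act fun x => funext fun i => ?_
  rw [Odd.act_mul, Odd.act_mul, Odd.act_mul, Odd.act_mul]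
  have g1 : a ≠ b := fun e => h (by rw [e])
  have g2 : bar a ≠ b := fun e => h (by rw [← e, lev_bar])
  have g3 : bar b ≠ a := fun e => h (by rw [← e, lev_bar])
  have g4 : a ≠ bar b := Ne.symm g3
  have g5 : bar a ≠ bar b := fun e => g1 (bar_inj e)
  rcases i with ⟨⟨⟩⟩ | i
  · simp [emb_el_inl, emb_el_inr, sh_apply_inl, sh_apply_inr, g1, g1.symm, g2, g3, g4, g5, g5.symm, bar_ne,
      bar_bar, (bar_ne _).symm]
    ring
  · simp only [emb_el_inl, emb_el_inr, sh_apply_inl, sh_apply_inr, g2, g3, g5, g5.symm, bar_ne, bar_bar,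
      (bar_ne _).symm, if_false, if_true]
    by_cases i1 : i = a
    · subst i1; simp [g1, g1.symm, g4]; ring
    by_cases i2 : i = b
    · subst i2; simp [g1, g1.symm, g3, g3.symm, (bar_ne _).symm]; ring
    by_cases i3 : i = bar b
    · subst i3; simp [g3, g4, bar_ne, g1, g1.symm]
    simp [i1, i2, i3]

/-- A monomial element. -/
def IsMB (g : OB F m) (τ : Equiv.Perm (Fin m ⊕ Fin m)) (c : Fin m ⊕ Fin m → F) (ε : F) : Prop :=
  (∀ i, τ (bar i) = bar (τ i)) ∧ (∀ i, c i * c (bar i) = 1) ∧ ε * ε = 1 ∧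
    (∀ i, Odd.act g (Pi.single (.inr i) 1) = Pi.single (.inr (τ i)) (c i)) ∧
      Odd.act g (Pi.single (.inl ()) 1) = Pi.single (.inl ()) ε

theorem act_smul (g : OB F m) (r : F) (x : Unit ⊕ (Fin m ⊕ Fin m) → F) :
    Odd.act g (r • x) = r • Odd.act g x := Matrix.mulVec_smul _ _ _

theorem act_single' (g : OB F m) (i : Unit ⊕ (Fin m ⊕ Fin m)) (x : F) :
    Odd.act g (Pi.single i x) = x • Odd.act g (Pi.single i 1) := by
  rw [← act_smul, ← Pi.single_smul', smul_eq_mul, mul_one]

theorem isMB_one : IsMB (1 : OB F m) 1 (fun _ => 1) 1 :=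
  ⟨fun _ => rfl, fun _ => one_mul 1, one_mul 1, fun _ => Odd.act_one _, Odd.act_one _⟩

theorem IsMB.mul {g g' : OB F m} {τ τ' : Equiv.Perm I} {c c' : I → F} {ε ε' : F} (h : IsMB g τ c ε)
    (h' : IsMB g' τ' c' ε') : IsMB (g * g') (τ * τ') (fun i => c' i * c (τ' i)) (ε' * ε) := by
  refine ⟨fun i => by simp [h'.1, h.1], fun i => ?_, by linear_combination (ε' * ε') * h.2.2.1 + h'.2.2.1,
    fun i => ?_, ?_⟩
  · beta_reduce; rw [h'.1]
    linear_combination (c (τ' i) * c (bar (τ' i))) * h'.2.1 i + h.2.1 (τ' i)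
  · rw [Odd.act_mul, h'.2.2.2.1, act_single', h.2.2.2.1, ← Pi.single_smul', smul_eq_mul]; rfl
  · rw [Odd.act_mul, h'.2.2.2.2, act_single', h.2.2.2.2, ← Pi.single_smul', smul_eq_mul]

theorem IsMB.inv {g : OB F m} {τ : Equiv.Perm I} {c : I → F} {ε : F} (h : IsMB g τ c ε) :
    IsMB g⁻¹ τ⁻¹ (fun i => (c (τ⁻¹ i))⁻¹) ε := by
  have hb : ∀ i, τ⁻¹ (bar i) = bar (τ⁻¹ i) := fun i => τ.injective (by simp [h.1])
  have hne : ∀ i, c i ≠ 0 := fun i => left_ne_zero_of_mul (by rw [h.2.1 i]; exact one_ne_zero)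
  refine ⟨hb, fun i => ?_, h.2.2.1, fun i => ?_, ?_⟩
  · beta_reduce; rw [hb, ← mul_inv, h.2.1, inv_one]
  · have := congrArg (Odd.act g⁻¹) (h.2.2.2.1 (τ⁻¹ i))
    rw [← Odd.act_mul, inv_mul_cancel, Odd.act_one, Equiv.Perm.coe_inv, Equiv.apply_symm_apply,
      act_single' g⁻¹ _ (c _)] at this
    have h2 := congrArg (fun v => (c (τ.symm i))⁻¹ • v) this
    simp only [smul_smul, inv_mul_cancel₀ (hne _), one_smul, ← Pi.single_smul', smul_eq_mul, mul_one] at h2
    simpa [Equiv.Perm.coe_inv] using h2.symm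
  · have := congrArg (Odd.act g⁻¹) h.2.2.2.2
    rw [← Odd.act_mul, inv_mul_cancel, Odd.act_one, act_single' g⁻¹ _ ε] at this
    have h2 := congrArg (fun v => ε • v) this
    simp only [smul_smul, h.2.2.1, one_smul, ← Pi.single_smul', smul_eq_mul, mul_one] at h2
    exact h2.symm

theorem IsMB.ok {g : OB F m} {τ : Equiv.Perm I} {c : I → F} {ε : F} (h : IsMB g τ c ε) {a b : I}
    (hab : lev a ≠ lev b) : lev (τ a) ≠ lev (τ b) := fun e => by
  rcases lev_eq e with e | e
  · exact hab (by rw [τ.injective e])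
  · rw [← h.1] at e; exact hab (by rw [τ.injective e, lev_bar])

theorem IsMB.unique {g : OB F m} {τ τ' : Equiv.Perm I} {c c' : I → F} {ε ε' : F} (h : IsMB g τ c ε)
    (h' : IsMB g τ' c' ε') : τ = τ' :=
  Equiv.ext fun i => by
    by_contra hne
    have := congrFun ((h.2.2.2.1 i).symm.trans (h'.2.2.2.1 i)) (.inr (τ i))
    rw [Pi.single_eq_same, Pi.single_eq_of_ne (fun e => hne (Sum.inr_injective e))] at this
    exact left_ne_zero_of_mul (show c i * c (bar i) ≠ 0 by rw [h.2.1 i]; exact one_ne_zero) this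

theorem IsMB.of_isMonO {g : OG F m} {τ : Equiv.Perm I} {c : I → F} (h : IsMonO g τ c) :
    IsMB (Odd.emb g) τ c 1 := by
  refine ⟨h.1, h.2.1, one_mul 1, fun i => Odd.vec_ext ?_ ?_, Odd.vec_ext ?_ ?_⟩
  · rw [Odd.emb_inl]; simp
  · rw [Odd.hy_emb, Odd.hy_single, Odd.hy_single, h.2.2]
  · rw [Odd.emb_inl]
  · rw [Odd.hy_emb, show hy (Pi.single (Sum.inl ()) (1 : F) : Unit ⊕ (Fin m ⊕ Fin m) → F) = 0 by
      funext j; simp [hy]]
    exact Matrix.mulVec_zero _

theorem IsMB.conj_el {g : OB F m} {τ : Equiv.Perm I} {c : I → F} {ε : F} (h : IsMB g τ c ε) {a b : I}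
    (hab : Ok a b) (h' : Ok (τ a) (τ b)) (t : F) :
    g * Odd.emb (el hab t) * g⁻¹ = Odd.emb (el h' (c a * c b * t)) := by
  rw [mul_inv_eq_iff_eq_mul]
  refine Odd.ext_single fun i => ?_
  rw [Odd.act_mul, Odd.act_mul]
  have key : ∀ {p q : I} (hh : Ok p q) (s : F) (j : Unit ⊕ (Fin m ⊕ Fin m)),
      Odd.act (Odd.emb (el hh s)) (Pi.single j 1) = Pi.single j 1 +
        Pi.single (.inr p) (if j = .inr (bar q) then s else 0) +
        Pi.single (.inr q) (if j = .inr (bar p) then -s else 0) := by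
    intro p q hh s j
    funext r
    rcases r with ⟨⟨⟩⟩ | r
    · simp [emb_el_inl]
    · rw [emb_el_inr]
      simp only [Pi.add_apply, Pi.single_apply, Sum.inr.injEq, eq_comm (a := j)]
      split_ifs <;> simp_all <;> ring
  have e : ∀ x, (τ x : I) = bar (τ (bar x)) := fun x => by rw [h.1, bar_bar]
  rcases i with ⟨⟨⟩⟩ | i
  · rw [key, h.2.2.2.2, act_single' _ _ ε, key]
    simp [Odd.act_add, h.2.2.2.2, act_single' _ _ (0 : F)]
    rw [← Pi.single_smul']; simp
  · have e' : ∀ x, (τ i = bar (τ x)) ↔ i = bar x := fun x => by rw [← h.1, τ.injective.eq_iff]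
    rw [key, Odd.act_add, Odd.act_add, act_single' g (.inr a), act_single' g (.inr b), h.2.2.2.1, h.2.2.2.1, h.2.2.2.1, act_single' _ _ (c i), key]
    simp only [Sum.inr.injEq, e', smul_add, ← Pi.single_smul', smul_eq_mul, mul_one, mul_ite, mul_zero,
      ite_mul, zero_mul]
    congr 1
    · congr 1
      split_ifs with hi
      · subst hi; congr 1; linear_combination -(c a * t) * h.2.1 b
      · rfl
    · split_ifs with hi
      · subst hi; congr 1; linear_combination (c b * t) * h.2.1 a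
      · rfl

theorem IsMB.conj_sh {g : OB F m} {τ : Equiv.Perm I} {c : I → F} {ε : F} (h : IsMB g τ c ε) (a : I)
    (t : F) : g * sh a t * g⁻¹ = sh (τ a) (ε * c a * t) := by
  rw [mul_inv_eq_iff_eq_mul]
  refine Odd.ext_single fun i => ?_
  rw [Odd.act_mul, Odd.act_mul]
  have key : ∀ (p : I) (s : F) (j : Unit ⊕ (Fin m ⊕ Fin m)),
      Odd.act (sh p s) (Pi.single j 1) = Pi.single j 1 +
        Pi.single (.inl ()) (if j = .inr (bar p) then s else 0) +
        Pi.single (.inr p) ((if j = .inl () then -(2 * s) else 0) +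
          if j = .inr (bar p) then -(s ^ 2) else 0) := by
    intro p s j
    funext r
    rcases r with ⟨⟨⟩⟩ | r
    · rw [sh_apply_inl]
      simp only [Pi.add_apply, Pi.single_apply, eq_comm (a := j)]
      split_ifs <;> simp_all
    · rw [sh_apply_inr]
      simp only [Pi.add_apply, Pi.single_apply, Sum.inr.injEq, eq_comm (a := j)]
      split_ifs <;> simp_all <;> ring
  rcases i with ⟨⟨⟩⟩ | i
  · rw [key, h.2.2.2.2, act_single' _ _ ε, key]
    simp only [reduceCtorEq, if_false, if_true, add_zero, Pi.single_zero]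
    rw [Odd.act_add, act_single' g (.inr a), h.2.2.2.2, h.2.2.2.1]
    simp only [smul_add, ← Pi.single_smul', smul_eq_mul, mul_one]
    congr 2
    linear_combination (2 * t * c a) * h.2.2.1
  · have e' : τ i = bar (τ a) ↔ i = bar a := by rw [← h.1, τ.injective.eq_iff]
    rw [key, Odd.act_add, Odd.act_add, act_single' g (.inl ()), act_single' g (.inr a),
      h.2.2.2.2, h.2.2.2.1, h.2.2.2.1, act_single' _ _ (c i), key]
    simp only [Sum.inr.injEq, reduceCtorEq, if_false, zero_add, e', smul_add, ← Pi.single_smul', smul_eq_mul,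
      mul_one, mul_ite, mul_zero, ite_mul, zero_mul]
    congr 1
    · congr 1
      split_ifs with hi
      · subst hi; congr 1; linear_combination -(t * ε) * h.2.1 a
      · rfl
    · split_ifs with hi
      · subst hi; congr 1
        linear_combination (t ^ 2 * c a) * h.2.1 a + (c a * c (bar a) * c a * t ^ 2) * h.2.2.1
      · rfl

/-- The Weyl element of a short root. -/
def wsG (a : Fin m ⊕ Fin m) (u : F) : OB F m := sh a u * sh (bar a) u⁻¹ * sh a u

theorem isMB_wsG (a : I) {u : F} (hu : u ≠ 0) :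
    IsMB (wsG a u) (Equiv.swap a (bar a))
      (fun i => if i = a then -(u ^ 2)⁻¹ else if i = bar a then -(u ^ 2) else 1) (-1) := by
  have g := bar_ne a
  refine ⟨fun i => ?_, fun i => ?_, by ring, fun i => ?_, ?_⟩
  · by_cases i1 : i = a
    · subst i1; simp [bar_bar]
    by_cases i2 : i = bar a
    · subst i2; simp [bar_bar]
    rw [Equiv.swap_apply_of_ne_of_ne i1 i2, Equiv.swap_apply_of_ne_of_ne]
    · exact fun e => i2 (by rw [← e, bar_bar])
    · exact fun e => i1 (bar_inj e)
  · by_cases i1 : i = a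
    · subst i1; simp [g, hu]
    by_cases i2 : i = bar a
    · subst i2; simp [g, bar_bar, hu]
    have j1 : bar i ≠ a := fun e => i2 (by rw [← e, bar_bar])
    have j2 : bar i ≠ bar a := fun e => i1 (bar_inj e)
    simp [i1, i2, j1, j2]
  · funext r
    rcases r with ⟨⟨⟩⟩ | r
    · simp only [wsG, Odd.act_mul, sh_apply_inl, sh_apply_inr, bar_bar, Pi.single_apply, Sum.inr.injEq,
        reduceCtorEq, if_false, if_true, g, g.symm]
      split_ifs <;> simp_all <;> field_simp <;> ring
    · simp only [wsG, Odd.act_mul, sh_apply_inl, sh_apply_inr, bar_bar, Pi.single_apply, Sum.inr.injEq,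
        reduceCtorEq, if_false, if_true, g, g.symm, Equiv.swap_apply_def]
      by_cases i1 : i = a
      · subst i1
        by_cases r1 : r = i
        · subst r1; simp [g, g.symm]; field_simp; ring
        by_cases r2 : r = bar i
        · subst r2; simp [g, g.symm]
        simp [r1, r2, g, g.symm]
      by_cases i2 : i = bar a
      · subst i2
        by_cases r1 : r = a
        · subst r1; simp [g, g.symm]; field_simp; ring
        by_cases r2 : r = bar a
        · subst r2; simp [g, g.symm]; field_simp; ring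
        simp [r1, r2, g, g.symm]
      simp [i1, i2, Ne.symm i1, Ne.symm i2]
  · funext r
    rcases r with ⟨⟨⟩⟩ | r
    · simp only [wsG, Odd.act_mul, sh_apply_inl, sh_apply_inr, bar_bar, Pi.single_apply,
        reduceCtorEq, if_false, if_true, g, g.symm]
      field_simp; ring
    · simp only [wsG, Odd.act_mul, sh_apply_inl, sh_apply_inr, bar_bar, Pi.single_apply,
        reduceCtorEq, if_false, if_true, g, g.symm]
      by_cases r1 : r = a
      · subst r1; simp [g, g.symm]; field_simp; ring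
      by_cases r2 : r = bar a
      · subst r2; simp [g, g.symm]; field_simp; ring
      simp [r1, r2]

end Cfsg.Agent.DMult.OddGp
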