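import Cfsg.Agent.DMult.Odd.Unip

/-!
The kernel of the projection on the lifted root elements in odd dimension has at most two elements.
-/

set_option autoImplicit false
set_option linter.unusedSectionVars false
set_option linter.unusedSimpArgs false

open Matrix
open scoped commutatorElement

namespace Cfsg.Agent.DMult.BExt

open Chev.Ortho
open Chev.Ortho.Odd (OB sh)
open CurtisTitsD (ok_of_lev lev_ne_of_ok Rt rperm rperm_apply V V_le le_V le_normalizer')
open OddGp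

universe u

variable {F : Type u} [Field F] [Fintype F] {m : ℕ} {Γ : Type u} [Group Γ] [Finite Γ] (B : BExt F m Γ)

local notation "I" => Fin m ⊕ Fin m

/-- The height of a signed index. -/
def hB {m : ℕ} : Fin m ⊕ Fin m → ℤ := Sum.elim (fun i => (m : ℤ) - (i : ℕ)) fun i => -((m : ℤ) - (i : ℕ))

theorem hB_inl (i : Fin m) : hB (Sum.inl i : I) = (m : ℤ) - (i : ℕ) := rfl

theorem hB_inr (i : Fin m) : hB (Sum.inr i : I) = -((m : ℤ) - (i : ℕ)) := rfl

theorem hB_bar (x : I) : hB (bar x) = -hB x := by cases x <;> simp [hB, bar]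

theorem hB_ne (x : I) : hB x ≠ 0 := by
  rcases x with i | i <;> simp only [hB, Sum.elim_inl, Sum.elim_inr] <;> have := i.2 <;> omega

theorem hB_sum_ne {p q : I} (h : lev p ≠ lev q) : hB p + hB q ≠ 0 := by
  rcases p with i | i <;> rcases q with j | j <;>
    simp only [hB, Sum.elim_inl, Sum.elim_inr, lev] at h ⊢ <;> have := i.2 <;> have := j.2 <;> omega

/-- The roots. -/
abbrev RB (m : ℕ) : Type := Rt m ⊕ (Fin m ⊕ Fin m)

/-- The height of a root. -/
def htB {m : ℕ} : RB m → ℤ := Sum.elim (fun r => hB r.1.1 + hB r.1.2) hB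

/-- The opposite root. -/
def negB {m : ℕ} : RB m → RB m := Sum.map CurtisTitsD.rneg bar

/-- The root subgroup of a long root. -/
noncomputable def XRB (a b : Fin m ⊕ Fin m) : Subgroup Γ := Subgroup.closure (Set.range (B.XL a b))

/-- The root subgroup of a short root. -/
noncomputable def YR (a : Fin m ⊕ Fin m) : Subgroup Γ := Subgroup.closure (Set.range (B.Y a))

/-- The root subgroups. -/
noncomputable def XB : RB m → Subgroup Γ := Sum.elim (fun r => B.XRB r.1.1 r.1.2) B.YR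

theorem mem_XRB {a b : I} (h : lev a ≠ lev b) {x : Γ} : x ∈ B.XRB a b ↔ ∃ t, B.XL a b t = x := by
  refine ⟨fun hx => ?_, fun ⟨t, e⟩ => e ▸ Subgroup.subset_closure ⟨t, rfl⟩⟩
  refine Subgroup.closure_induction (fun _ hy => hy) ⟨0, B.XL_zero h⟩ ?_ ?_ hx
  · rintro _ _ _ _ ⟨t, rfl⟩ ⟨u, rfl⟩; exact ⟨t + u, B.XL_add h t u⟩
  · rintro _ _ ⟨t, rfl⟩; exact ⟨-t, (B.XL_inv h t).symm⟩

theorem mem_YR {a : I} {x : Γ} : x ∈ B.YR a ↔ ∃ t, B.Y a t = x := by
  refine ⟨fun hx => ?_, fun ⟨t, e⟩ => e ▸ Subgroup.subset_closure ⟨t, rfl⟩⟩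
  refine Subgroup.closure_induction (fun _ hy => hy) ⟨0, B.Y_zero a⟩ ?_ ?_ hx
  · rintro _ _ _ _ ⟨t, rfl⟩ ⟨u, rfl⟩; exact ⟨t + u, B.Y_add a t u⟩
  · rintro _ _ ⟨t, rfl⟩; exact ⟨-t, (B.Y_inv a t).symm⟩

theorem XRB_swap {a b : I} (h : lev a ≠ lev b) : B.XRB b a = B.XRB a b := by
  ext x
  rw [B.mem_XRB h.symm, B.mem_XRB h]
  exact ⟨fun ⟨t, e⟩ => ⟨-t, (B.XL_swap h t).symm.trans e⟩,
    fun ⟨t, e⟩ => ⟨-t, by rw [B.XL_swap h, neg_neg, e]⟩⟩

theorem lev_rt (r : Rt m) : lev r.1.1 ≠ lev r.1.2 := lev_ne_of_ok r.2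

/-- A monomial element maps root subgroups to root subgroups. -/
theorem mon_mapB {g : Γ} {τ : Equiv.Perm I} {c : I → F} {ε : F} (h : IsMB (B.σ g) τ c ε) :
    ∀ r : RB m, (B.XB r).map (MulAut.conj g).toMonoidHom =
      B.XB (Equiv.sumCongr (rperm τ h.1) τ r) := by
  have hne : ∀ i, c i ≠ 0 := fun i => left_ne_zero_of_mul (by rw [h.2.1 i]; exact one_ne_zero)
  have hε : ε ≠ 0 := left_ne_zero_of_mul (by rw [h.2.2.1]; exact one_ne_zero)
  rintro (r | a)
  · show (B.XRB r.1.1 r.1.2).map _ = B.XRB (τ r.1.1) (τ r.1.2)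
    have hl := lev_rt r
    ext x
    simp only [Subgroup.mem_map, MulEquiv.coe_toMonoidHom, MulAut.conj_apply, B.mem_XRB (h.ok hl)]
    constructor
    · rintro ⟨y, hy, rfl⟩
      obtain ⟨t, rfl⟩ := (B.mem_XRB hl).1 hy
      exact ⟨_, (B.XL_conj h hl t).symm⟩
    · rintro ⟨t, rfl⟩
      refine ⟨_, (B.mem_XRB hl).2 ⟨t / (c r.1.1 * c r.1.2), rfl⟩, ?_⟩
      rw [B.XL_conj h hl, mul_div_cancel₀ t (mul_ne_zero (hne _) (hne _))]
  · show (B.YR a).map _ = B.YR (τ a)
    ext x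
    simp only [Subgroup.mem_map, MulEquiv.coe_toMonoidHom, MulAut.conj_apply, B.mem_YR]
    constructor
    · rintro ⟨y, ⟨t, rfl⟩, rfl⟩
      exact ⟨_, (B.Y_conj h a t).symm⟩
    · rintro ⟨t, rfl⟩
      refine ⟨_, ⟨t / (ε * c a), rfl⟩, ?_⟩
      rw [B.Y_conj h, mul_div_cancel₀ t (mul_ne_zero hε (hne _))]

/-- The Weyl element of a short root. -/
noncomputable def ws (a : Fin m ⊕ Fin m) (u : F) : Γ := B.Y a u * B.Y (bar a) u⁻¹ * B.Y a u

theorem isMB_ws (a : I) {u : F} (hu : u ≠ 0) :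
    IsMB (B.σ (B.ws a u)) (Equiv.swap a (bar a))
      (fun i => if i = a then -(u ^ 2)⁻¹ else if i = bar a then -(u ^ 2) else 1) (-1) := by
  rw [ws, map_mul, map_mul, B.σ_Y, B.σ_Y]
  exact isMB_wsG a hu

theorem ws_inv (a : I) (u : F) : (B.ws a u)⁻¹ = B.ws a (-u) := by
  simp only [ws, _root_.mul_inv_rev, B.Y_inv, inv_neg, mul_assoc]

/-- The group of the long Weyl elements. -/
noncomputable def ND : Subgroup Γ := (Ngp B.D).map B.DS.subtype

theorem wL_mem_ND {a b : I} (h : lev a ≠ lev b) {t : F} (ht : t ≠ 0) : B.wL a b t ∈ B.ND :=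
  ⟨_, w_mem_Ngp B.D h ht, rfl⟩

theorem hL_mem_ND {a b : I} (h : lev a ≠ lev b) {t : F} (ht : t ≠ 0) : B.hL a b t ∈ B.ND :=
  ⟨_, That_le_Ngp B.D (h_mem_That B.D h ht), rfl⟩

theorem ND_conj {g : Γ} {τ : Equiv.Perm I} {c : I → F} {ε : F} (h : IsMB (B.σ g) τ c ε) {x : Γ}
    (hx : x ∈ B.ND) : g * x * g⁻¹ ∈ B.ND := by
  have hne : ∀ i, c i ≠ 0 := fun i => left_ne_zero_of_mul (by rw [h.2.1 i]; exact one_ne_zero)
  obtain ⟨d, hd, rfl⟩ := hx
  have hd' : d ∈ Subgroup.closure {x : B.DS | ∃ a b t, lev a ≠ lev b ∧ t ≠ 0 ∧ DMult.w B.D a b t = x} := hd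
  show g * (d : Γ) * g⁻¹ ∈ B.ND
  refine Subgroup.closure_induction (p := fun (d : B.DS) _ => g * (d : Γ) * g⁻¹ ∈ B.ND) ?_ ?_ ?_ ?_ hd'
  · rintro _ ⟨a, b, t, hab, ht, rfl⟩
    show g * B.wL a b t * g⁻¹ ∈ _
    rw [B.wL_conj h hab]
    exact B.wL_mem_ND (h.ok hab) (mul_ne_zero (mul_ne_zero (hne a) (hne b)) ht)
  · simp [one_mem]
  · intro x y _ _ hx hy
    rw [Subgroup.coe_mul, ← conj_mul]; exact mul_mem hx hy
  · intro x _ hx
    rw [Subgroup.coe_inv, ← conj_inv]; exact inv_mem hx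

/-- The short Weyl elements of one index differ by long torus elements. -/
theorem ws_eq (a : I) {u : F} (hu : u ≠ 0) : ∃ d ∈ B.ND, B.ws a u = d * B.ws a 1 := by
  obtain ⟨c, hc, -⟩ := B.exists_third a a
  have hm := B.isMB_hL hc.symm hu
  have hs := B.isMB_ws a (one_ne_zero : (1 : F) ≠ 0)
  refine ⟨B.hL a c u * (B.hL (bar a) c u)⁻¹, mul_mem (B.hL_mem_ND hc.symm hu)
    (inv_mem (B.hL_mem_ND (by rw [lev_bar]; exact hc.symm) hu)), ?_⟩
  have e1 : B.hL a c u * B.ws a 1 * (B.hL a c u)⁻¹ = B.ws a u := by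
    rw [ws, show B.hL a c u * (B.Y a 1 * B.Y (bar a) 1⁻¹ * B.Y a 1) * (B.hL a c u)⁻¹ =
      B.hL a c u * B.Y a 1 * (B.hL a c u)⁻¹ * (B.hL a c u * B.Y (bar a) 1⁻¹ * (B.hL a c u)⁻¹) *
        (B.hL a c u * B.Y a 1 * (B.hL a c u)⁻¹) by group, B.Y_conj hm, B.Y_conj hm, ws]
    have a1 : bar a ≠ c := fun e => hc (by rw [← e, lev_bar])
    simp [bar_ne, a1]
  have e2 : B.ws a 1 * B.hL a c u * (B.ws a 1)⁻¹ = B.hL (bar a) c u := by
    rw [B.hL_conj hs hc.symm hu, Equiv.swap_apply_left, Equiv.swap_apply_of_ne_of_ne]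
    · exact fun e => hc (by rw [e])
    · exact fun e => hc (by rw [e, lev_bar])
  rw [← e1, ← e2]; group

/-- The last signed index. -/
def iL (B : BExt F m Γ) : Fin m ⊕ Fin m := Sum.inl ⟨m - 1, by have := B.three; omega⟩

/-- The monomial group. -/
noncomputable def NB : Subgroup Γ where
  carrier := {x | ∃ d ∈ B.ND, x = d ∨ x = d * B.ws B.iL 1}
  one_mem' := ⟨1, one_mem _, Or.inl rfl⟩
  mul_mem' := by
    have hs := B.isMB_ws B.iL (one_ne_zero : (1 : F) ≠ 0)
    obtain ⟨d0, hd0, e0⟩ := B.ws_eq B.iL (neg_ne_zero.2 (one_ne_zero : (1 : F) ≠ 0))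
    rw [← B.ws_inv] at e0
    have hss : B.ws B.iL 1 * B.ws B.iL 1 ∈ B.ND := by
      rw [show B.ws B.iL 1 * B.ws B.iL 1 = d0⁻¹ by
        rw [eq_mul_inv_of_mul_eq e0.symm, _root_.mul_inv_rev, inv_inv]]
      exact inv_mem hd0
    rintro x y ⟨d, hd, hx⟩ ⟨e, he, hy⟩
    rcases hx with hx | hx <;> rcases hy with hy | hy <;> rw [hx, hy]
    · exact ⟨_, mul_mem hd he, Or.inl rfl⟩
    · exact ⟨_, mul_mem hd he, Or.inr (mul_assoc _ _ _).symm⟩
    · exact ⟨_, mul_mem hd (B.ND_conj hs he), Or.inr (by group)⟩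
    · exact ⟨_, mul_mem (mul_mem hd (B.ND_conj hs he)) hss, Or.inl (by group)⟩
  inv_mem' := by
    have hs := B.isMB_ws B.iL (one_ne_zero : (1 : F) ≠ 0)
    obtain ⟨d0, hd0, e0⟩ := B.ws_eq B.iL (neg_ne_zero.2 (one_ne_zero : (1 : F) ≠ 0))
    rw [← B.ws_inv] at e0
    rintro x ⟨d, hd, hx | hx⟩ <;> rw [hx]
    · exact ⟨_, inv_mem hd, Or.inl rfl⟩
    · refine ⟨d0 * (B.ws B.iL 1 * d⁻¹ * (B.ws B.iL 1)⁻¹), mul_mem hd0 (B.ND_conj hs (inv_mem hd)), Or.inr ?_⟩
      rw [show d0 * (B.ws B.iL 1 * d⁻¹ * (B.ws B.iL 1)⁻¹) * B.ws B.iL 1 = d0 * B.ws B.iL 1 * d⁻¹ by group,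
        ← e0, _root_.mul_inv_rev]

theorem NB_isMB {x : Γ} (hx : x ∈ B.NB) : ∃ τ c ε, IsMB (B.σ x) τ c ε := by
  obtain ⟨d, ⟨d', hd', rfl⟩, hx⟩ := hx
  obtain ⟨τ, c, hc⟩ := Ngp_le B.D hd'
  have h1 : IsMB (B.σ (B.DS.subtype d')) τ c 1 := by
    rw [Subgroup.coe_subtype, ← B.emb_σD]
    exact IsMB.of_isMonO hc
  rcases hx with rfl | rfl
  · exact ⟨_, _, _, h1⟩
  · exact ⟨_, _, _, by rw [map_mul]; exact h1.mul (B.isMB_ws B.iL one_ne_zero)⟩

theorem Ngp_even {x : B.DS} (hx : x ∈ Ngp B.D) {τ : Equiv.Perm I} (h : IsMon B.D x τ) :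
    Equiv.Perm.sign τ = 1 := by
  suffices key : ∃ τ', IsMon B.D x τ' ∧ Equiv.Perm.sign τ' = 1 by
    obtain ⟨τ', ⟨c', h'⟩, hs⟩ := key
    obtain ⟨c, hc⟩ := h
    rwa [hc.perm_unique h']
  refine Subgroup.closure_induction ?_ ?_ ?_ ?_ hx
  · rintro _ ⟨a, b, t, hab, ht, rfl⟩
    refine ⟨_, w_mon B.D hab ht, ?_⟩
    rw [wPerm, Equiv.Perm.sign_mul, Equiv.Perm.sign_swap, Equiv.Perm.sign_swap]
    · simp
    · exact fun e => hab (by rw [e, lev_bar])
    · exact fun e => hab (by rw [e, lev_bar])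
  · exact ⟨1, ⟨_, by rw [map_one]; exact isMonO_one⟩, by simp⟩
  · rintro x y - - ⟨τ₁, h₁, s₁⟩ ⟨τ₂, h₂, s₂⟩
    exact ⟨_, h₁.mul B.D h₂, by rw [Equiv.Perm.sign_mul, s₁, s₂, one_mul]⟩
  · rintro x - ⟨τ₁, h₁, s₁⟩
    exact ⟨_, h₁.inv B.D, by rw [Equiv.Perm.sign_inv, s₁]⟩

/-- The nodes. -/
abbrev NdB (m : ℕ) : Type := {k : Fin m × Fin m // (k.1 : ℕ) + 1 = k.2} ⊕ Unit

/-- The simple roots. -/
def alphaB (B : BExt F m Γ) : NdB m → RB m
  | .inl k => .inl ⟨(.inl k.1.1, .inr k.1.2), ok_of_lev fun e => by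
      have := k.2; simp only [lev, Sum.elim_inl, Sum.elim_inr] at e; omega⟩
  | .inr _ => .inr B.iL

theorem alphaB_ht (i : NdB m) : htB (B.alphaB i) = 1 := by
  have := B.three
  rcases i with k | k
  · have := k.2; simp only [htB, alphaB, hB, Sum.elim_inl, Sum.elim_inr]; omega
  · simp only [htB, alphaB, hB, iL, Sum.elim_inl, Sum.elim_inr]; omega

theorem swap_bar (a x : I) : Equiv.swap a (bar a) (bar x) = bar (Equiv.swap a (bar a) x) := by
  by_cases i1 : x = a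
  · subst i1; simp [bar_bar]
  by_cases i2 : x = bar a
  · subst i2; simp [bar_bar]
  rw [Equiv.swap_apply_of_ne_of_ne i1 i2, Equiv.swap_apply_of_ne_of_ne]
  · exact fun e => i2 (by rw [← e, bar_bar])
  · exact fun e => i1 (bar_inj e)

/-- The signed permutation of a node. -/
def npB (B : BExt F m Γ) : NdB m → Equiv.Perm (Fin m ⊕ Fin m)
  | .inl k => wPerm (.inl k.1.1) (.inr k.1.2)
  | .inr _ => Equiv.swap B.iL (bar B.iL)

theorem node_lev (k : {k : Fin m × Fin m // (k.1 : ℕ) + 1 = k.2}) :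
    lev (Sum.inl k.1.1 : I) ≠ lev (Sum.inr k.1.2 : I) := fun e => by
  have := k.2; simp only [lev, Sum.elim_inl, Sum.elim_inr] at e; omega

theorem npB_bar (i : NdB m) (x : I) : B.npB i (bar x) = bar (B.npB i x) := by
  rcases i with k | k
  · exact wPerm_bar (node_lev k) x
  · exact swap_bar _ x

/-- The permutation of roots of a node. -/
def piB (i : NdB m) : Equiv.Perm (RB m) := Equiv.sumCongr (rperm (B.npB i) (B.npB_bar i)) (B.npB i)

theorem long_hgt (k : {k : Fin m × Fin m // (k.1 : ℕ) + 1 = k.2}) (x : I) :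
    hB x - 1 ≤ hB (B.npB (.inl k) x) ∧
      (x ≠ .inl k.1.1 → x ≠ .inr k.1.2 → hB x ≤ hB (B.npB (.inl k) x)) := by
  have h1 : hB (Sum.inl k.1.1 : I) + hB (Sum.inr k.1.2 : I) = 1 := by
    have := k.2; rw [hB_inl, hB_inr]; omega
  simp only [npB]
  generalize ha : (Sum.inl k.1.1 : I) = a
  generalize hb : (Sum.inr k.1.2 : I) = b
  have h : lev a ≠ lev b := ha ▸ hb ▸ node_lev k
  rw [ha, hb] at h1
  rw [wPerm_apply h]
  split_ifs with i1 i2 i3 i4
  · subst i1; rw [hB_bar]; exact ⟨by omega, fun _ _ => by omega⟩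
  · subst i2; rw [hB_bar]; exact ⟨by omega, fun e => absurd rfl e⟩
  · subst i3; rw [hB_bar]; exact ⟨by omega, fun _ _ => by omega⟩
  · subst i4; rw [hB_bar]; exact ⟨by omega, fun _ e => absurd rfl e⟩
  · exact ⟨by omega, fun _ _ => le_rfl⟩

theorem short_hgt (x : I) :
    hB x - 2 ≤ hB (Equiv.swap B.iL (bar B.iL) x) ∧ (x ≠ B.iL → hB x ≤ hB (Equiv.swap B.iL (bar B.iL) x)) := by
  have hL : hB B.iL = 1 := B.alphaB_ht (.inr ())
  rw [Equiv.swap_apply_def]
  split_ifs with i1 i2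
  · subst i1; rw [hB_bar]; exact ⟨by omega, fun e => absurd rfl e⟩
  · subst i2; rw [hB_bar]; exact ⟨by omega, fun _ => by omega⟩
  · exact ⟨by omega, fun _ => le_rfl⟩

theorem short_long_ok {p q : I} (h : lev p ≠ lev q) (hp : 0 < hB p + hB q) :
    0 < hB (Equiv.swap B.iL (bar B.iL) p) + hB (Equiv.swap B.iL (bar B.iL) q) := by
  have hL : hB B.iL = 1 := B.alphaB_ht (.inr ())
  have h3 := hB_sum_ne (p := Equiv.swap B.iL (bar B.iL) p) (q := Equiv.swap B.iL (bar B.iL) q) (by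
    intro e
    rcases lev_eq e with e | e
    · exact h (by rw [(Equiv.injective _) e])
    · rw [← swap_bar] at e; exact h (by rw [(Equiv.injective _) e, lev_bar]))
  by_cases e1 : p = B.iL
  · have hq := (B.short_hgt q).2 (fun e => h (by rw [e1, e]))
    have := hB_ne q
    rw [e1, Equiv.swap_apply_left, hB_bar] at h3 ⊢
    rw [e1] at hp
    omega
  by_cases e2 : q = B.iL
  · have hq := (B.short_hgt p).2 e1
    have := hB_ne p
    rw [e2, Equiv.swap_apply_left, hB_bar] at h3 ⊢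
    rw [e2] at hp
    omega
  have := (B.short_hgt p).2 e1
  have := (B.short_hgt q).2 e2
  omega

theorem XB_piB (i : NdB m) :
    B.XB (B.piB i (B.alphaB i)) = B.XB (negB (B.alphaB i)) ∧
      B.XB (B.piB i (negB (B.alphaB i))) = B.XB (B.alphaB i) := by
  rcases i with k | k
  · obtain ⟨a, ha⟩ : ∃ a : I, a = .inl k.1.1 := ⟨_, rfl⟩
    obtain ⟨b, hb⟩ : ∃ b : I, b = .inr k.1.2 := ⟨_, rfl⟩
    have h : lev a ≠ lev b := ha ▸ hb ▸ node_lev k
    have h' : lev (bar a) ≠ lev (bar b) := by rwa [lev_bar, lev_bar]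
    have g3 : b ≠ a := fun e => h (by rw [e])
    have va : wPerm a b a = bar b := wPerm_left h
    have vb : wPerm a b b = bar a := by
      rw [wPerm_apply h, if_neg (bar_ne b).symm, if_neg g3, if_neg (fun e => h (by rw [e, lev_bar])),
        if_pos rfl]
    constructor
    · show B.XRB (wPerm (.inl k.1.1) (.inr k.1.2) (.inl k.1.1)) (wPerm (.inl k.1.1) (.inr k.1.2) (.inr k.1.2)) =
        B.XRB (bar (.inl k.1.1)) (bar (.inr k.1.2))
      rw [← ha, ← hb, va, vb, B.XRB_swap h']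
    · show B.XRB (wPerm (.inl k.1.1) (.inr k.1.2) (bar (.inl k.1.1)))
        (wPerm (.inl k.1.1) (.inr k.1.2) (bar (.inr k.1.2))) = B.XRB (.inl k.1.1) (.inr k.1.2)
      rw [← ha, ← hb, wPerm_bar h, wPerm_bar h, va, vb, bar_bar, bar_bar, B.XRB_swap h]
  · constructor
    · show B.YR (Equiv.swap B.iL (bar B.iL) B.iL) = B.YR (bar B.iL)
      rw [Equiv.swap_apply_left]
    · show B.YR (Equiv.swap B.iL (bar B.iL) (bar B.iL)) = B.YR B.iL
      rw [Equiv.swap_apply_right]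

theorem pi2B (i : NdB m) (r : RB m) (h : 2 ≤ htB r) : 0 < htB (B.piB i r) := by
  rcases i with k | k <;> rcases r with r | x
  · have h3 := hB_sum_ne (lev_rt (rperm (B.npB (.inl k)) (B.npB_bar (.inl k)) r))
    simp only [rperm_apply] at h3
    have := (B.long_hgt k r.1.1).1
    have := (B.long_hgt k r.1.2).1
    simp only [htB, piB, Equiv.sumCongr_apply, Sum.map_inl, Sum.elim_inl, rperm_apply] at h ⊢
    omega
  · have := (B.long_hgt k x).1
    simp only [htB, piB, Equiv.sumCongr_apply, Sum.map_inr, Sum.elim_inr] at h ⊢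
    omega
  · simp only [htB, piB, Equiv.sumCongr_apply, Sum.map_inl, Sum.elim_inl, rperm_apply] at h ⊢
    exact B.short_long_ok (lev_rt r) (by omega)
  · have hL : hB B.iL = 1 := B.alphaB_ht (.inr ())
    simp only [htB, piB, npB, Equiv.sumCongr_apply, Sum.map_inr, Sum.elim_inr] at h ⊢
    have := (B.short_hgt x).2 (fun e => by rw [e] at h; omega)
    omega

theorem pi1B (i : NdB m) (r : RB m) (hr : 0 < htB r) (hn : ¬ 0 < htB (B.piB i r)) :
    B.XB r = B.XB (B.alphaB i) := by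
  rcases i with k | k <;> rcases r with r | x
  · have h3 := hB_sum_ne (lev_rt (rperm (B.npB (.inl k)) (B.npB_bar (.inl k)) r))
    simp only [rperm_apply] at h3
    simp only [htB, piB, Equiv.sumCongr_apply, Sum.map_inl, Sum.elim_inl, rperm_apply] at hr hn
    have hb1 := B.long_hgt k r.1.1
    have hb2 := B.long_hgt k r.1.2
    have hp : r.1.1 = .inl k.1.1 ∨ r.1.1 = .inr k.1.2 := by
      by_contra hc; simp only [not_or] at hc
      have := hb1.2 hc.1 hc.2; omega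
    have hq : r.1.2 = .inl k.1.1 ∨ r.1.2 = .inr k.1.2 := by
      by_contra hc; simp only [not_or] at hc
      have := hb2.2 hc.1 hc.2; omega
    have hne : r.1.1 ≠ r.1.2 := r.2.1
    show B.XRB r.1.1 r.1.2 = B.XRB (.inl k.1.1) (.inr k.1.2)
    rcases hp with e1 | e1 <;> rcases hq with e2 | e2
    · exact absurd (e1.trans e2.symm) hne
    · rw [e1, e2]
    · rw [e1, e2, B.XRB_swap (node_lev k)]
    · exact absurd (e1.trans e2.symm) hne
  · have hb := (B.long_hgt k x).1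
    have h3 := hB_ne (B.npB (.inl k) x)
    simp only [htB, piB, Equiv.sumCongr_apply, Sum.map_inr, Sum.elim_inr] at hr hn
    exfalso; omega
  · simp only [htB, piB, Equiv.sumCongr_apply, Sum.map_inl, Sum.elim_inl, rperm_apply] at hr hn
    exact absurd (B.short_long_ok (lev_rt r) hr) hn
  · simp only [htB, piB, npB, Equiv.sumCongr_apply, Sum.map_inr, Sum.elim_inr] at hr hn
    show B.YR x = B.YR B.iL
    by_cases e : x = B.iL
    · rw [e]
    · have := (B.short_hgt x).2 e; exfalso; omega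

theorem XL_mem_V {a b : I} (h : lev a ≠ lev b) {k : ℤ} (hk : k ≤ hB a + hB b) (t : F) :
    B.XL a b t ∈ V htB B.XB k := by
  have := le_V (ht := htB) (X := B.XB) (r := (.inl ⟨(a, b), ok_of_lev h⟩ : RB m)) (k := k) hk
  exact this ((B.mem_XRB h).2 ⟨t, rfl⟩)

theorem Y_mem_V {a : I} {k : ℤ} (hk : k ≤ hB a) (t : F) : B.Y a t ∈ V htB B.XB k := by
  have := le_V (ht := htB) (X := B.XB) (r := (.inr a : RB m)) (k := k) hk
  exact this (B.mem_YR.2 ⟨t, rfl⟩)

theorem comm_LL {a b c d : I} (hab : lev a ≠ lev b) (hcd : lev c ≠ lev d) (h1 : 0 < hB a + hB b)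
    (h2 : 0 < hB c + hB d) (t u : F) :
    ⁅B.XL a b t, B.XL c d u⁆ ∈ V htB B.XB (hB a + hB b + (hB c + hB d)) := by
  have one : ∀ {p q r s : I} (_ : lev p ≠ lev q) (_ : lev r ≠ lev s), 0 < hB p + hB q → 0 < hB r + hB s →
      bar q = r → ∀ t u, ⁅B.XL p q t, B.XL r s u⁆ ∈ V htB B.XB (hB p + hB q + (hB r + hB s)) := by
    intro p q r s hpq hrs hp hr e t u
    subst e
    by_cases hps : lev p = lev s
    · rcases lev_eq hps with e | e
      · subst e
        rw [B.XL_swap (a := p) (b := bar q) hrs.symm u,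
          commutatorElement_eq_one_iff_commute.2 (show Commute (B.XL p q t) (B.XL p (bar q) (-u)) from
            congrArg Subtype.val (X_opp B.D hpq t (-u)))]
        exact one_mem _
      · exfalso; subst e; rw [hB_bar] at hp hr; omega
    rw [show q = bar (bar q) from (bar_bar q).symm] at hpq ⊢
    rw [bar_bar (bar q), B.XL_rel hps (by rwa [lev_bar] at hpq) hrs]
    refine B.XL_mem_V hps ?_ _
    rw [hB_bar, hB_bar]
    omega
  by_cases e1 : bar b = c
  · exact one hab hcd h1 h2 e1 t u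
  by_cases e2 : bar b = d
  · rw [B.XL_swap hcd.symm u, add_comm (hB c)]
    exact one hab hcd.symm h1 (by omega) e2 t _
  by_cases e3 : bar a = c
  · rw [B.XL_swap hab.symm t, add_comm (hB a)]
    exact one hab.symm hcd (by omega) h2 e3 _ u
  by_cases e4 : bar a = d
  · rw [B.XL_swap hab.symm t, B.XL_swap hcd.symm u, add_comm (hB a), add_comm (hB c)]
    exact one hab.symm hcd.symm (by omega) (by omega) e4 _ _
  rw [commutatorElement_eq_one_iff_commute.2 (B.XL_comm hab hcd e1 e2 e3 e4 t u)]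
  exact one_mem _

theorem comm_LS {a b c : I} (hab : lev a ≠ lev b) (h1 : 0 < hB a + hB b) (h2 : 0 < hB c) (t u : F) :
    ⁅B.XL a b t, B.Y c u⁆ ∈ V htB B.XB (hB a + hB b + hB c) := by
  have one : ∀ {p q : I}, lev p ≠ lev q → ∀ t, 0 < hB c → bar q = c →
      ⁅B.XL p q t, B.Y c u⁆ ∈ V htB B.XB (hB p + hB q + hB c) := by
    intro p q hpq t hc e
    subst e
    have h := B.XL_Y_rel (a := p) (b := bar q) (by rwa [lev_bar]) t u
    rw [bar_bar] at h
    rw [h]
    rw [hB_bar] at hc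
    refine mul_mem (B.Y_mem_V (by rw [hB_bar]; omega) _) (B.XL_mem_V (by rwa [lev_bar]) ?_ _)
    rw [hB_bar]; omega
  by_cases e1 : bar b = c
  · exact one hab t h2 e1
  by_cases e2 : bar a = c
  · rw [B.XL_swap hab.symm t, add_comm (hB a)]
    exact one hab.symm _ h2 e2
  rw [commutatorElement_eq_one_iff_commute.2 (B.XL_Y_comm hab e2 e1 t u)]
  exact one_mem _

theorem comm_SS {a c : I} (h1 : 0 < hB a) (h2 : 0 < hB c) (t u : F) :
    ⁅B.Y a t, B.Y c u⁆ ∈ V htB B.XB (hB a + hB c) := by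
  by_cases e : lev a = lev c
  · rcases lev_eq e with e | e
    · subst e
      rw [commutatorElement_eq_one_iff_commute.2 (show Commute (B.Y a t) (B.Y a u) from
        B.Y_L_comm a t u (B.σ_Y a u))]
      exact one_mem _
    · exfalso; subst e; rw [hB_bar] at h1; omega
  rw [B.Y_rel e]
  exact B.XL_mem_V e le_rfl _

theorem comm_ruleB (r s : RB m) (hr : 0 < htB r) (hs : 0 < htB s) :
    ∀ x ∈ B.XB r, ∀ y ∈ B.XB s, ⁅x, y⁆ ∈ V htB B.XB (htB r + htB s) := by
  intro x hx y hy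
  rcases r with r | a <;> rcases s with s | c
  · obtain ⟨t, rfl⟩ := (B.mem_XRB (lev_rt r)).1 hx
    obtain ⟨u, rfl⟩ := (B.mem_XRB (lev_rt s)).1 hy
    exact B.comm_LL (lev_rt r) (lev_rt s) hr hs t u
  · obtain ⟨t, rfl⟩ := (B.mem_XRB (lev_rt r)).1 hx
    obtain ⟨u, rfl⟩ := B.mem_YR.1 hy
    exact B.comm_LS (lev_rt r) hr hs t u
  · obtain ⟨t, rfl⟩ := B.mem_YR.1 hx
    obtain ⟨u, rfl⟩ := (B.mem_XRB (lev_rt s)).1 hy
    rw [← commutatorElement_inv, add_comm (htB _)]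
    exact inv_mem (B.comm_LS (lev_rt s) hs hr u t)
  · obtain ⟨t, rfl⟩ := B.mem_YR.1 hx
    obtain ⟨u, rfl⟩ := B.mem_YR.1 hy
    exact B.comm_SS hr hs t u

/-- The group generated by the lifted root elements. -/
noncomputable def GB : Subgroup Γ :=
  Subgroup.closure {x | ∃ t, (∃ a b, lev a ≠ lev b ∧ B.XL a b t = x) ∨ ∃ a, B.Y a t = x}

theorem gen_simpleB (G : Subgroup Γ) (hA : ∀ i, B.XB (B.alphaB i) ≤ G)
    (hN : ∀ i, B.XB (negB (B.alphaB i)) ≤ G) : B.GB ≤ G := by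
  have h2 := B.odd
  have sw : ∀ {a b : I}, lev a ≠ lev b → (∀ t, B.XL a b t ∈ G) → ∀ t, B.XL b a t ∈ G := fun h hG t => by
    rw [B.XL_swap h]; exact hG _
  have hlin : ∀ i j : Fin m, i ≠ j → ∀ t, B.XL (Sum.inl i) (Sum.inr j) t ∈ G := by
    have hall := CurtisTitsA.gen_adjacent ((G.comap B.DS.subtype).comap (f B.D isSec_inl)) (M := m) le_rfl
      (fun k hk c => by
        rw [Subgroup.mem_comap, ← X_eq_f B.D isSec_inl (a := Sum.inl (⟨k, by omega⟩ : Fin m))
          (b := Sum.inr (⟨k + 1, hk⟩ : Fin m)) (fun e => by simp [Fin.ext_iff] at e) rfl rfl c]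
        exact hA (.inl ⟨(⟨k, by omega⟩, ⟨k + 1, hk⟩), rfl⟩) (Subgroup.subset_closure ⟨c, rfl⟩))
      (fun k hk c => by
        rw [Subgroup.mem_comap, ← X_eq_f B.D isSec_inl (a := Sum.inl (⟨k + 1, hk⟩ : Fin m))
          (b := Sum.inr (⟨k, by omega⟩ : Fin m)) (fun e => by simp [Fin.ext_iff] at e) rfl rfl c]
        refine sw (a := Sum.inr (⟨k, by omega⟩ : Fin m)) (b := Sum.inl (⟨k + 1, hk⟩ : Fin m))
          (by simp [lev]) (fun t => ?_) c
        exact hN (.inl ⟨(⟨k, by omega⟩, ⟨k + 1, hk⟩), rfl⟩) (Subgroup.subset_closure ⟨t, rfl⟩))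
    intro i j hij t
    rw [XL, X_eq_f B.D isSec_inl hij (a := Sum.inl i) (b := Sum.inr j) rfl rfl]
    exact hall i j hij i.2 j.2 t
  have side : ∀ s : Fin m → I, IsSec s → (∀ i j, i ≠ j → ∀ t, B.XL (s i) (bar (s j)) t ∈ G) →
      ∀ q : Fin m, (∀ t, B.Y (s q) t ∈ G) →
        (∀ i t, B.Y (s i) t ∈ G) ∧ ∀ i j, i ≠ j → ∀ t, B.XL (s i) (s j) t ∈ G := by
    intro s hs hl q hq
    have hY : ∀ i t, B.Y (s i) t ∈ G := by
      intro i t
      by_cases h : i = q
      · subst h; exact hq t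
      have hne := hs.lev_ne h
      have hZ : ∀ u v : F, B.Y (s i) (u * v) * B.XL (s i) (s q) (u * v ^ 2) ∈ G := fun u v => by
        rw [← B.XL_Y_rel hne, commutatorElement_def]
        exact mul_mem (mul_mem (mul_mem (hl i q h u) (hq v)) (inv_mem (hl i q h u))) (inv_mem (hq v))
      have hX : ∀ w, B.XL (s i) (s q) w ∈ G := fun w => by
        have hh : (B.Y (s i) (2 * (w / 2) * 1) * B.XL (s i) (s q) (2 * (w / 2) * 1 ^ 2))⁻¹ *
            (B.Y (s i) (w / 2 * 2) * B.XL (s i) (s q) (w / 2 * 2 ^ 2)) = B.XL (s i) (s q) w := by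
          rw [_root_.mul_inv_rev, mul_assoc, ← mul_assoc (B.Y (s i) _)⁻¹,
            show 2 * (w / 2) * 1 = w / 2 * 2 by ring, inv_mul_cancel, one_mul, B.XL_inv hne, ← B.XL_add hne]
          congr 1; field_simp; ring
        rw [← hh]
        exact mul_mem (inv_mem (hZ _ _)) (hZ _ _)
      have := mul_mem (hZ t 1) (inv_mem (hX (t * 1 ^ 2)))
      rwa [mul_inv_cancel_right, mul_one] at this
    refine ⟨hY, fun i j hij t => ?_⟩
    rw [show t = -(2 * (-t / 2) * 1) by field_simp, ← B.Y_rel (hs.lev_ne hij), commutatorElement_def]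
    exact mul_mem (mul_mem (mul_mem (hY i _) (hY j _)) (inv_mem (hY i _))) (inv_mem (hY j _))
  set q : Fin m := ⟨m - 1, by have := B.three; omega⟩
  have hp := side (fun i => Sum.inl i) isSec_inl hlin q
    (fun t => hA (.inr ()) (Subgroup.subset_closure ⟨t, rfl⟩))
  have hn := side (fun i => Sum.inr i) (fun _ => rfl)
    (fun i j hij t => sw (a := Sum.inl j) (b := Sum.inr i) (fun e => hij (Fin.ext e).symm) (hlin j i hij.symm) t)
    q (fun t => hN (.inr ()) (Subgroup.subset_closure ⟨t, rfl⟩))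
  rw [GB, Subgroup.closure_le]
  rintro _ ⟨t, ⟨a, b, hab, rfl⟩ | ⟨a, rfl⟩⟩
  · rcases a with i | i <;> rcases b with j | j
    · exact hp.2 i j (fun e => hab (by subst e; rfl)) t
    · exact hlin i j (fun e => hab (by subst e; rfl)) t
    · exact sw (a := Sum.inl j) (b := Sum.inr i) hab.symm (hlin j i (fun e => hab (by subst e; rfl))) t
    · exact hn.2 i j (fun e => hab (by subst e; rfl)) t
  · rcases a with i | i
    · exact hp.1 i t
    · exact hn.1 i t

/-- The height of a basis index. -/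
def hW {m : ℕ} : Unit ⊕ (Fin m ⊕ Fin m) → ℤ := Sum.elim (fun _ => 0) hB

/-- Moving coordinates only by lower ones. -/
def Upper (g : OB F m) : Prop :=
  ∀ (v : Unit ⊕ (Fin m ⊕ Fin m) → F) x, (∀ z, hW z < hW x → v z = 0) → Odd.act g v x = v x

theorem Upper.mul {g h : OB F m} (hg : Upper g) (hh : Upper h) : Upper (g * h) := fun v x hv => by
  have key : ∀ z, hW z < hW x → Odd.act h v z = 0 := fun z hz => by
    rw [hh v z fun z' hz' => hv z' (hz'.trans hz), hv z hz]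
  rw [Odd.act_mul, hg _ x key, hh v x hv]

theorem UB_upper {g : Γ} (hg : g ∈ B.UB 0) : Upper (B.σ g) := by
  have gen : ∀ x ∈ B.ugens 0, Upper (B.σ x) := by
    rintro _ ⟨i, t, -, ⟨y, hy, rfl⟩ | rfl⟩ v x hv
    · have hl : lev (Sum.inl i : I) ≠ lev y := lev_lt_ne hy
      rw [B.σ_XL (ok_of_lev hl)]
      rcases x with ⟨⟨⟩⟩ | x
      · rw [emb_el_inl]
      · have hpos : 0 < hB (Sum.inl i : I) + hB y := by
          rcases y with j | j <;> simp only [lev, Sum.elim_inl, Sum.elim_inr] at hy <;>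
            simp only [hB, Sum.elim_inl, Sum.elim_inr] <;> have := j.2 <;> omega
        rw [emb_el_inr]
        split_ifs with h1 h2 h2
        · exact absurd (h1.symm.trans h2) (fun e => hl (by rw [e]))
        · subst h1; rw [hv (.inr (bar y)) (by simp only [hW, Sum.elim_inr, hB_bar]; omega)]; ring
        · subst h2; rw [hv (.inr (bar (Sum.inl i))) (by simp only [hW, Sum.elim_inr, hB_bar]; omega)]; ring
        · ring
    · rw [B.σ_Y]
      have hpos : 0 < hB (Sum.inl i : I) := by simp only [hB, Sum.elim_inl]; have := i.2; omega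
      rcases x with ⟨⟨⟩⟩ | x
      · rw [sh_apply_inl, hv (.inr (bar (Sum.inl i))) (by simp only [hW, Sum.elim_inl, Sum.elim_inr, hB_bar]; omega)]
        ring
      · rw [sh_apply_inr]
        split_ifs with h1
        · subst h1
          rw [hv (.inr (bar (Sum.inl i))) (by simp only [hW, Sum.elim_inr, hB_bar]; omega),
            hv (.inl ()) (by simp only [hW, Sum.elim_inl, Sum.elim_inr]; omega)]
          ring
        · ring
  induction hg using Subgroup.closure_induction'' with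
  | one => rw [map_one]; exact fun v x _ => by rw [Odd.act_one]
  | mem z hz => exact gen z hz
  | inv_mem z hz =>
    refine gen _ ?_
    obtain ⟨i, t, hi, ⟨y, hy, rfl⟩ | rfl⟩ := hz
    · exact ⟨i, -t, hi, Or.inl ⟨y, hy, (B.XL_inv (lev_lt_ne hy) t).symm⟩⟩
    · exact ⟨i, -t, hi, Or.inr (B.Y_inv _ t).symm⟩
  | mul a b _ _ ha hb => rw [map_mul]; exact ha.mul hb

theorem V_le_UB : V htB B.XB 1 ≤ B.UB 0 := by
  refine V_le fun r hr => ?_
  have key : ∀ (i : Fin m) (y : I), (i : ℕ) < lev y → B.XRB (Sum.inl i) y ≤ B.UB 0 := fun i y hy => by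
    rw [XRB, Subgroup.closure_le]
    rintro _ ⟨t, rfl⟩
    exact Subgroup.subset_closure ⟨i, t, Nat.zero_le _, Or.inl ⟨y, hy, rfl⟩⟩
  rcases r with ⟨⟨p, q⟩, h⟩ | a
  · show B.XRB p q ≤ _
    have hl : lev p ≠ lev q := lev_ne_of_ok h
    simp only [htB, Sum.elim_inl] at hr
    rcases p with i | i <;> rcases q with j | j <;> simp only [hB, Sum.elim_inl, Sum.elim_inr] at hr
    · rcases lt_or_gt_of_ne (fun e => hl (show (i : ℕ) = j from e)) with h' | h'
      · exact key i _ h'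
      · rw [← B.XRB_swap hl]; exact key j _ h'
    · exact key i _ (show (i : ℕ) < j by omega)
    · rw [← B.XRB_swap hl]; exact key j _ (show (j : ℕ) < i by omega)
    · exfalso; have := i.2; have := j.2; omega
  · show B.YR a ≤ _
    simp only [htB, Sum.elim_inr] at hr
    rcases a with i | i
    · rw [YR, Subgroup.closure_le]
      rintro _ ⟨t, rfl⟩
      exact Subgroup.subset_closure ⟨i, t, Nat.zero_le _, Or.inr rfl⟩
    · exfalso; simp only [hB, Sum.elim_inr] at hr; have := i.2; omega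

/-- The candidate kernel element. -/
noncomputable def zzB : Γ := (zz B.D : B.DS)

/-- The kernel of the projection on the group of lifted root elements. -/
theorem GB_ker {g : Γ} (hg : g ∈ B.GB) (h1 : B.σ g = 1) : g = 1 ∨ g = B.zzB := by
  have h2 := B.odd
  let Wset : NdB m → Set Γ := fun i => match i with
    | .inl k => {x | ∃ t : F, t ≠ 0 ∧ B.wL (.inl k.1.1) (.inr k.1.2) t = x}
    | .inr _ => {x | ∃ t : F, t ≠ 0 ∧ B.ws B.iL t = x}
  obtain ⟨a, ha, n, hn, b, hb, rfl⟩ := cover (R := RB m) htB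
    (fun r => by rcases r with r | x; exacts [hB_sum_ne (lev_rt r), hB_ne x]) negB
    (fun r => by
      rcases r with r | x
      · simp only [htB, negB, Sum.map_inl, Sum.elim_inl, CurtisTitsD.rneg, hB_bar]; ring
      · simp only [htB, negB, Sum.map_inr, Sum.elim_inr, hB_bar]) B.XB B.alphaB B.alphaB_ht B.piB
    (fun i => (B.XB_piB i).1) (fun i => (B.XB_piB i).2) Wset
    (fun i x hx r => by
      rcases i with k | k
      · obtain ⟨t, ht, rfl⟩ := hx
        exact B.mon_mapB (B.isMB_wL (node_lev k) ht) r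
      · obtain ⟨t, ht, rfl⟩ := hx
        exact B.mon_mapB (B.isMB_ws B.iL ht) r)
    B.pi2B B.pi1B
    (fun i x hx => by
      rcases i with k | k
      · have h := node_lev k
        have h' : lev (bar (Sum.inl k.1.1 : I)) ≠ lev (bar (Sum.inr k.1.2 : I)) := by rwa [lev_bar, lev_bar]
        obtain ⟨t, rfl⟩ := (B.mem_XRB h').1 hx
        by_cases ht : t = 0
        · exact Or.inl (by rw [ht, B.XL_zero h'])
        · exact Or.inr ⟨_, (B.mem_XRB h).2 ⟨-t⁻¹, rfl⟩, _, ⟨t⁻¹, inv_ne_zero ht, rfl⟩, _,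
            (B.mem_XRB h).2 ⟨-t⁻¹, rfl⟩, by rw [B.wL_eq, inv_inv, ← B.XL_inv h]; group⟩
      · obtain ⟨t, rfl⟩ := B.mem_YR.1 hx
        by_cases ht : t = 0
        · exact Or.inl (by rw [ht, B.Y_zero])
        · exact Or.inr ⟨_, B.mem_YR.2 ⟨-t⁻¹, rfl⟩, _, ⟨t⁻¹, inv_ne_zero ht, rfl⟩, _,
            B.mem_YR.2 ⟨-t⁻¹, rfl⟩, by rw [ws, inv_inv, ← B.Y_inv]; group⟩)
    B.comm_ruleB B.NB
    (fun i x hx => by
      rcases i with k | k
      · obtain ⟨t, ht, rfl⟩ := hx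
        exact ⟨_, B.wL_mem_ND (node_lev k) ht, Or.inl rfl⟩
      · obtain ⟨t, ht, rfl⟩ := hx
        obtain ⟨d, hd, e⟩ := B.ws_eq B.iL ht
        exact ⟨d, hd, Or.inr e⟩)
    (fun n hn => by
      obtain ⟨τ, c, ε, h⟩ := B.NB_isMB hn
      refine ⟨_, fun r => ?_, B.mon_mapB h⟩
      rcases r with r | x
      · exact congrArg Sum.inl (Subtype.ext (Prod.ext (h.1 _) (h.1 _)))
      · exact congrArg Sum.inr (h.1 x))
    g (B.gen_simpleB _ (fun i => le_sup_left.trans (le_iSup (fun i => B.XB (B.alphaB i) ⊔ B.XB (negB (B.alphaB i))) i))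
      (fun i => le_sup_right.trans (le_iSup (fun i => B.XB (B.alphaB i) ⊔ B.XB (negB (B.alphaB i))) i)) hg)
  have ha' := B.V_le_UB ha
  have hb' := B.V_le_UB hb
  have hσn : Upper (B.σ n) := by
    have e : B.σ n = B.σ a⁻¹ * B.σ b⁻¹ := by
      rw [map_inv, map_inv, eq_inv_mul_iff_mul_eq, ← mul_eq_one_iff_eq_inv, ← map_mul, ← map_mul]
      exact h1
    rw [e]
    exact (B.UB_upper (inv_mem ha')).mul (B.UB_upper (inv_mem hb'))
  obtain ⟨τ, c, ε, hc⟩ := B.NB_isMB hn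
  have hdiag : ∀ i, τ i = i ∧ c i = 1 := fun i => by
    have := hσn (Pi.single (.inr i) 1) (.inr i) fun z hz =>
      Pi.single_eq_of_ne (fun e => by subst e; exact lt_irrefl _ hz) _
    rw [hc.2.2.2.1, Pi.single_eq_same] at this
    by_cases e : τ i = i
    · rw [e, Pi.single_eq_same] at this; exact ⟨e, this⟩
    · rw [Pi.single_eq_of_ne (fun e' => e (Sum.inr_injective e').symm)] at this
      exact absurd this zero_ne_one
  have hε : ε = 1 := by
    have := hσn (Pi.single (.inl ()) 1) (.inl ()) fun z hz =>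
      Pi.single_eq_of_ne (fun e => by subst e; exact lt_irrefl _ hz) _
    rwa [hc.2.2.2.2, Pi.single_eq_same, Pi.single_eq_same] at this
  have hτ : τ = 1 := Equiv.ext fun i => (hdiag i).1
  subst hτ
  have hn1 : B.σ n = 1 := Odd.ext_single fun i => by
    rcases i with ⟨⟨⟩⟩ | i
    · rw [hc.2.2.2.2, hε, Odd.act_one]
    · rw [hc.2.2.2.1, (hdiag i).2, Odd.act_one]; rfl
  have hmc : n ∈ Subgroup.center Γ := B.central hn1
  have hab : a * b = 1 := by
    refine B.UB_inj (k := 0) (mul_mem ha' hb') ?_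
    rw [← h1, map_mul, map_mul, map_mul, hn1, mul_one]
  have e : a * n * b = n := by
    rw [Subgroup.mem_center_iff.1 hmc a, mul_assoc, hab, mul_one]
  rw [e]
  obtain ⟨d, ⟨d', hd', rfl⟩, hnd⟩ := hn
  obtain ⟨τd, cd, hcd⟩ := Ngp_le B.D hd'
  have h1d : IsMB (B.σ (B.DS.subtype d')) τd cd 1 := by
    rw [Subgroup.coe_subtype, ← B.emb_σD]; exact IsMB.of_isMonO hcd
  rcases hnd with rfl | rfl
  · have hd1 : B.σD d' = 1 := emb_injective (by rw [B.emb_σD, map_one]; exact hn1)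
    have hT := Ngp_trivial B.D hd' ⟨fun _ => 1, by
      show IsMonO (B.σD d') 1 _; rw [hd1]; exact isMonO_one⟩
    rcases That_ker B.D hT hd1 with h | h
    · left; rw [h]; rfl
    · right; rw [h]; rfl
  · exfalso
    have hh := h1d.mul (B.isMB_ws B.iL one_ne_zero)
    rw [← map_mul, hn1] at hh
    have := congrArg Equiv.Perm.sign (isMB_one.unique hh)
    rw [Equiv.Perm.sign_one, Equiv.Perm.sign_mul, B.Ngp_even hd' ⟨cd, hcd⟩, one_mul,
      Equiv.Perm.sign_swap (bar_ne B.iL).symm] at this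
    exact absurd this (by decide)

end Cfsg.Agent.DMult.BExt
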