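import Cfsg.Agent.DMult.Kernel
import Cfsg.Agent.DMult.Odd.Group

/-!
Central extensions of the split odd-dimensional `Ω` in odd characteristic: the lifts of the long root
elements from the even subgroup and of the short root elements by a torus commutator.
-/

set_option autoImplicit false
set_option linter.unusedSectionVars false
set_option linter.unusedSimpArgs false

open Matrix
open scoped commutatorElement

namespace Cfsg.Agent.DMult

open Chev.Ortho
open Chev.Ortho.Odd (OB sh)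
open CurtisTitsD (ok_of_lev lev_ne_of_ok el_congr)
open OddGp

universe u

variable (F : Type u) [Field F] (m : ℕ) (Γ : Type u) [Group Γ]

/-- A central extension whose image contains the root elements, with the conditions on `(m, |F|)`. -/
structure BExt where
  /-- The projection. -/
  σ : Γ →* OB F m
  central : σ.ker ≤ Subgroup.center Γ
  el_mem : ∀ (a b : Fin m ⊕ Fin m) (h : Ok a b) (t : F), Odd.emb (el h t) ∈ σ.range
  sh_mem : ∀ (a : Fin m ⊕ Fin m) (t : F), sh a t ∈ σ.range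
  three : 3 ≤ m
  odd : (2 : F) ≠ 0
  big : 4 ≤ m ∨ ∃ c : F, c ≠ 0 ∧ c * c ≠ 1

namespace BExt

variable {F m Γ} [Fintype F] [Finite Γ] (B : BExt F m Γ)

local notation "I" => Fin m ⊕ Fin m

theorem emb_injective : Function.Injective (Odd.emb (F := F) (m := m)) := fun g h e => by
  refine Chev.Ortho.ext_act fun x => funext fun i => ?_
  have h1 := congrArg (fun k => Odd.hy (Odd.act k (Sum.elim (fun _ => 0) x)) i) e
  simp only [Odd.hy_emb] at h1
  exact h1

/-- The preimage of the even subgroup. -/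
def DS : Subgroup Γ := (Odd.emb (F := F) (m := m)).range.comap B.σ

/-- The projection of the preimage of the even subgroup. -/
noncomputable def σD : B.DS →* OG F m :=
  (MonoidHom.ofInjective (emb_injective (F := F) (m := m))).symm.toMonoidHom.comp
    ((B.σ.comp B.DS.subtype).codRestrict _ fun x => x.2)

theorem emb_σD (x : B.DS) : Odd.emb (B.σD x) = B.σ x := by
  have := MonoidHom.apply_ofInjective_symm (emb_injective (F := F) (m := m))
    ⟨B.σ (x : Γ), x.2⟩
  exact this

/-- The extension of the even subgroup. -/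
noncomputable def D : Ext F m B.DS where
  σ := B.σD
  central := fun x hx => Subgroup.mem_center_iff.2 fun y => Subtype.ext (Subgroup.mem_center_iff.1
    (B.central (show B.σ (x : Γ) = 1 by rw [← B.emb_σD, show B.σD x = 1 from hx, map_one])) (y : Γ))
  el_mem a b h t := by
    obtain ⟨g, hg⟩ := B.el_mem a b h t
    refine ⟨⟨g, ⟨_, hg.symm⟩⟩, emb_injective ?_⟩
    rw [B.emb_σD]; exact hg
  three := B.three
  good := Or.inl ⟨fun _ h => B.odd (by
    have : Fintype F := Fintype.ofFinite F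
    rw [Nat.card_eq_fintype_card] at h
    have : CharP F 2 := ringChar.of_eq (FiniteField.even_card_iff_char_two.2 (by rw [h]))
    exact CharTwo.two_eq_zero), fun _ => B.odd⟩

/-- The lift of a long root element. -/
noncomputable def XL (a b : Fin m ⊕ Fin m) (t : F) : Γ := (X B.D a b t : B.DS)

/-- The long torus element. -/
noncomputable def hL (a b : Fin m ⊕ Fin m) (t : F) : Γ := (DMult.h B.D a b t : B.DS)

/-- The long Weyl element. -/
noncomputable def wL (a b : Fin m ⊕ Fin m) (t : F) : Γ := (DMult.w B.D a b t : B.DS)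

theorem wL_eq (a b : I) (t : F) : B.wL a b t = B.XL a b t * B.XL (bar a) (bar b) t⁻¹ * B.XL a b t := rfl

theorem hL_eq (a b : I) (t : F) : B.hL a b t = B.wL a b t * B.wL a b (-1) := rfl

theorem σ_XL {a b : I} (h : Ok a b) (t : F) : B.σ (B.XL a b t) = Odd.emb (el h t) := by
  rw [XL, ← B.emb_σD, show B.σD (X B.D a b t) = el h t from σ_X B.D h t]

theorem isMB_hL {a b : I} (h : lev a ≠ lev b) {t : F} (ht : t ≠ 0) :
    IsMB (B.σ (B.hL a b t)) 1
      (fun i => if i = a ∨ i = b then t else if i = bar a ∨ i = bar b then t⁻¹ else 1) 1 := by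
  rw [hL, ← B.emb_σD]
  exact IsMB.of_isMonO (isMonO_h B.D h ht)

theorem isMB_wL {a b : I} (h : lev a ≠ lev b) {t : F} (ht : t ≠ 0) :
    IsMB (B.σ (B.wL a b t)) (wPerm a b)
      (fun i => if i = bar b then t else if i = a then -t⁻¹ else if i = bar a then -t else
        if i = b then t⁻¹ else 1) 1 := by
  rw [wL, ← B.emb_σD]
  exact IsMB.of_isMonO (isMonO_w B.D h ht)

theorem XL_add {a b : I} (h : lev a ≠ lev b) (t u : F) : B.XL a b (t + u) = B.XL a b t * B.XL a b u :=
  congrArg Subtype.val (X_add B.D h t u)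

theorem XL_zero {a b : I} (h : lev a ≠ lev b) : B.XL a b (0 : F) = 1 :=
  congrArg Subtype.val (X_zero B.D h)

theorem XL_inv {a b : I} (h : lev a ≠ lev b) (t : F) : (B.XL a b t)⁻¹ = B.XL a b (-t) :=
  congrArg Subtype.val (X_inv B.D h t)

theorem XL_swap {a b : I} (h : lev a ≠ lev b) (t : F) : B.XL b a t = B.XL a b (-t) :=
  congrArg Subtype.val (X_swap B.D h t)

theorem XL_rel {a b c : I} (hab : lev a ≠ lev b) (hac : lev a ≠ lev c) (hcb : lev c ≠ lev b) (t u : F) :
    ⁅B.XL a (bar c) t, B.XL c b u⁆ = B.XL a b (t * u) :=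
  congrArg Subtype.val (X_rel B.D hab hac hcb t u)

theorem XL_comm {a b c d : I} (hab : lev a ≠ lev b) (hcd : lev c ≠ lev d) (h1 : bar b ≠ c)
    (h2 : bar b ≠ d) (h3 : bar a ≠ c) (h4 : bar a ≠ d) (t u : F) :
    Commute (B.XL a b t) (B.XL c d u) :=
  congrArg Subtype.val (X_comm B.D hab hcd h1 h2 h3 h4 t u)

theorem exists_third (B : BExt F m Γ) (a b : I) : ∃ d : I, lev d ≠ lev a ∧ lev d ≠ lev b := DMult.exists_third B.D a b

/-- Monomial elements permute the lifts of the long root elements. -/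
theorem XL_conj {g : Γ} {τ : Equiv.Perm I} {c : I → F} {ε : F} (h : IsMB (B.σ g) τ c ε) {a b : I}
    (hab : lev a ≠ lev b) (t : F) : g * B.XL a b t * g⁻¹ = B.XL (τ a) (τ b) (c a * c b * t) := by
  obtain ⟨d, hda, hdb⟩ := B.exists_third a b
  have n1 : lev a ≠ lev (bar d) := by rw [lev_bar]; exact hda.symm
  have n1' : lev (τ a) ≠ lev (bar (τ d)) := by rw [lev_bar]; exact h.ok hda.symm
  conv_lhs => rw [← mul_one t, ← B.XL_rel hab hda.symm hdb]
  rw [show c a * c b * t = c a * c (bar d) * t * (c d * c b) by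
      linear_combination -(c a * c b * t) * h.2.1 d,
    ← B.XL_rel (h.ok hab) (h.ok hda.symm) (h.ok hdb),
    show g * ⁅B.XL a (bar d) t, B.XL d b 1⁆ * g⁻¹ =
      ⁅g * B.XL a (bar d) t * g⁻¹, g * B.XL d b 1 * g⁻¹⁆ by simp only [commutatorElement_def]; group]
  have o1 : Ok (τ a) (τ (bar d)) := ok_of_lev (h.ok n1)
  refine br_indep B.central ?_ ?_
  · rw [map_mul, map_mul, map_inv, B.σ_XL (ok_of_lev n1), h.conj_el (ok_of_lev n1) o1,
      B.σ_XL (ok_of_lev n1'), el_congr o1 (ok_of_lev n1') rfl (h.1 d)]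
  · rw [map_mul, map_mul, map_inv, B.σ_XL (ok_of_lev hdb), h.conj_el (ok_of_lev hdb) (ok_of_lev (h.ok hdb)),
      B.σ_XL (ok_of_lev (h.ok hdb)), mul_one]

theorem wL_pair {a b : I} (h : lev a ≠ lev b) {t χ : F} (ht : t ≠ 0) (hχ : χ ≠ 0) :
    B.wL a b (χ * t) * B.wL a b (χ * -1) = B.hL a b t := by
  obtain ⟨s, hs, sa, sb⟩ := exists_sec_root h
  have hne := levF_ne.2 h
  refine congrArg Subtype.val (a₁ := DMult.w B.D a b (χ * t) * DMult.w B.D a b (χ * -1)) ?_
  rw [w_eq_f B.D hs hne sa sb, w_eq_f B.D hs hne sa sb, h_eq_f B.D hs hne sa sb, ← map_mul, wS_pair hne ht hχ]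

theorem wL_conj {g : Γ} {τ : Equiv.Perm I} {c : I → F} {ε : F} (hg : IsMB (B.σ g) τ c ε) {a b : I}
    (hab : lev a ≠ lev b) (t : F) : g * B.wL a b t * g⁻¹ = B.wL (τ a) (τ b) (c a * c b * t) := by
  have h' : lev (bar a) ≠ lev (bar b) := by rwa [lev_bar, lev_bar]
  have e : c (bar a) * c (bar b) * t⁻¹ = (c a * c b * t)⁻¹ := by
    rw [mul_inv, mul_inv, eq_inv_of_mul_eq_one_right (hg.2.1 a), eq_inv_of_mul_eq_one_right (hg.2.1 b)]
  rw [wL_eq, show g * (B.XL a b t * B.XL (bar a) (bar b) t⁻¹ * B.XL a b t) * g⁻¹ =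
      g * B.XL a b t * g⁻¹ * (g * B.XL (bar a) (bar b) t⁻¹ * g⁻¹) * (g * B.XL a b t * g⁻¹) by group,
    B.XL_conj hg hab, B.XL_conj hg h', e, hg.1, hg.1, wL_eq]

theorem hL_conj {g : Γ} {τ : Equiv.Perm I} {c : I → F} {ε : F} (hg : IsMB (B.σ g) τ c ε) {a b : I}
    (hab : lev a ≠ lev b) {t : F} (ht : t ≠ 0) : g * B.hL a b t * g⁻¹ = B.hL (τ a) (τ b) t := by
  have hne : ∀ i, c i ≠ 0 := fun i => left_ne_zero_of_mul (by rw [hg.2.1 i]; exact one_ne_zero)
  rw [hL_eq, show g * (B.wL a b t * B.wL a b (-1)) * g⁻¹ =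
      g * B.wL a b t * g⁻¹ * (g * B.wL a b (-1) * g⁻¹) by group,
    B.wL_conj hg hab, B.wL_conj hg hab, B.wL_pair (hg.ok hab) ht (mul_ne_zero (hne a) (hne b))]

/-- A lift of a short root element. -/
noncomputable def L (a : Fin m ⊕ Fin m) (t : F) : Γ := (B.sh_mem a t).choose

theorem σ_L (a : I) (t : F) : B.σ (B.L a t) = sh a t := (B.sh_mem a t).choose_spec

/-- The lift of a short root element. -/
noncomputable def Y (a : Fin m ⊕ Fin m) (t : F) : Γ :=
  ⁅B.hL a (B.exists_third a a).choose (-1), B.L a (-t / 2)⁆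

theorem conj_eq {g x : Γ} {y : OB F m} (h : B.σ x = y) : B.σ (g * x * g⁻¹) = B.σ g * y * (B.σ g)⁻¹ := by
  rw [map_mul, map_mul, map_inv, h]

/-- If two elements centralise modulo the kernel then their commutator centralises. -/
theorem comm_of_two {x y L : Γ} (h1 : Commute (B.σ x) (B.σ L)) (h2 : Commute (B.σ y) (B.σ L)) :
    Commute ⁅x, y⁆ L := by
  have key : ∀ {z}, Commute (B.σ z) (B.σ L) → B.σ (L * z * L⁻¹) = B.σ z := fun h => by
    rw [map_mul, map_mul, map_inv, h.symm.eq, mul_inv_cancel_right]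
  have e : L * ⁅x, y⁆ * L⁻¹ = ⁅x, y⁆ := by
    rw [show L * ⁅x, y⁆ * L⁻¹ = ⁅L * x * L⁻¹, L * y * L⁻¹⁆ by simp only [commutatorElement_def]; group]
    exact br_indep B.central (key h1) (key h2)
  exact (mul_inv_eq_iff_eq_mul.1 e).symm

theorem σ_comm_L {a b c : I} (h : lev b ≠ lev c) (hb : bar b ≠ a) (hc : bar c ≠ a) (t : F) {L : Γ} {u : F}
    (hL : B.σ L = sh a u) : Commute (B.σ (B.XL b c t)) (B.σ L) := by
  rw [B.σ_XL (ok_of_lev h), hL]
  exact el_sh_comm _ hb hc t u

/-- A long lift through the index of a short root commutes with every lift of it. -/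
theorem XL_L_self {a c : I} (h : lev a ≠ lev c) (t : F) {L : Γ} {u : F} (hL : B.σ L = sh a u) :
    Commute (B.XL a c t) L := by
  obtain ⟨d, hda, hdc⟩ := B.exists_third a c
  rw [← mul_one t, ← B.XL_rel h hda.symm hdc]
  have ne : ∀ x : I, lev x ≠ lev a → bar x ≠ a := fun x hx e => hx (by rw [← e, lev_bar])
  exact B.comm_of_two (B.σ_comm_L (by rw [lev_bar]; exact hda.symm) (bar_ne a) (ne _ (by rwa [lev_bar])) t hL)
    (B.σ_comm_L hdc (ne _ hda) (ne _ h.symm) 1 hL)

/-- A long lift away from a short root commutes with every lift of it. -/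
theorem XL_L_away {a c d : I} (hcd : lev c ≠ lev d) (hc : lev c ≠ lev a) (hd : lev d ≠ lev a) (t : F)
    {L : Γ} {u : F} (hL : B.σ L = sh a u) : Commute (B.XL c d t) L := by
  have ne : ∀ x : I, lev x ≠ lev a → bar x ≠ a := fun x hx e => hx (by rw [← e, lev_bar])
  rcases B.big with h4 | ⟨k, hk0, hk1⟩
  · obtain ⟨e, he1, he2, he3⟩ := exists_fourth h4 a c d
    rw [← mul_one t, ← B.XL_rel hcd he2.symm he3]
    exact B.comm_of_two (B.σ_comm_L (by rw [lev_bar]; exact he2.symm) (ne _ hc) (ne _ (by rwa [lev_bar])) t hL)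
      (B.σ_comm_L he3 (ne _ he1) (ne _ hd) 1 hL)
  · set C : F → Γ := fun v => ⁅B.XL c d v, L⁆ with hC
    have hCc : ∀ v y, y * C v = C v * y := fun v => Subgroup.mem_center_iff.1 (B.central (by
      rw [MonoidHom.mem_ker, map_commutatorElement, commutatorElement_eq_one_iff_commute]
      exact B.σ_comm_L hcd (ne _ hc) (ne _ hd) v hL))
    have hadd : ∀ v w, C (v + w) = C v * C w := fun v w => by
      simp only [hC]
      rw [B.XL_add hcd, show ⁅B.XL c d v * B.XL c d w, L⁆ =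
        B.XL c d v * ⁅B.XL c d w, L⁆ * (B.XL c d v)⁻¹ * ⁅B.XL c d v, L⁆ by
          simp only [commutatorElement_def]; group]
      show B.XL c d v * C w * (B.XL c d v)⁻¹ * C v = C v * C w
      rw [hCc w, mul_inv_cancel_right, hCc]
    set g := B.hL c d k with hg
    have hmon := B.isMB_hL hcd hk0
    have hscale : ∀ v, C (k * k * v) = C v := fun v => by
      have h1 : g * B.XL c d v * g⁻¹ = B.XL c d (k * k * v) := by
        rw [B.XL_conj hmon hcd]; simp
      have h2 : B.σ (g * L * g⁻¹) = B.σ L := by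
        rw [B.conj_eq hL, hmon.conj_sh, hL]
        have a1 : a ≠ c := fun e => hc (by rw [e])
        have a2 : a ≠ d := fun e => hd (by rw [e])
        have a3 : a ≠ bar c := fun e => hc (by rw [e, lev_bar])
        have a4 : a ≠ bar d := fun e => hd (by rw [e, lev_bar])
        simp [a1, a2, a3, a4]
      calc C (k * k * v) = ⁅g * B.XL c d v * g⁻¹, g * L * g⁻¹⁆ := br_indep B.central (by rw [h1]) h2.symm
        _ = g * C v * g⁻¹ := by simp only [hC, commutatorElement_def]; group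
        _ = C v := by rw [hCc v g, mul_inv_cancel_right]
    have hC1 : C t = 1 := by
      have hne : k * k - 1 ≠ 0 := sub_ne_zero.2 hk1
      have h := hscale (t / (k * k - 1))
      rw [show k * k * (t / (k * k - 1)) = t + t / (k * k - 1) by
        linear_combination (mul_div_cancel₀ t hne), hadd] at h
      exact mul_eq_right.1 h
    exact commutatorElement_eq_one_iff_commute.1 hC1

theorem hL_L_away {a c d : I} (hcd : lev c ≠ lev d) (hc : lev c ≠ lev a) (hd : lev d ≠ lev a) (t : F)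
    {L : Γ} {u : F} (hL : B.σ L = sh a u) : Commute (B.hL c d t) L := by
  have key : ∀ s : F, Commute (B.wL c d s) L := fun s => by
    rw [wL_eq]
    refine Commute.mul_left (Commute.mul_left ?_ ?_) ?_
    · exact B.XL_L_away hcd hc hd _ hL
    · exact B.XL_L_away (by rwa [lev_bar, lev_bar]) (by rwa [lev_bar]) (by rwa [lev_bar]) _ hL
    · exact B.XL_L_away hcd hc hd _ hL
  rw [hL_eq]
  exact (key t).mul_left (key (-1))

/-- The torus commutator does not depend on the second index of the torus element. -/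
theorem br_hL {a c c' : I} (hc : lev c ≠ lev a) (hc' : lev c' ≠ lev a) {L : Γ} {u : F} (hL : B.σ L = sh a u) :
    ⁅B.hL a c (-1), L⁆ = ⁅B.hL a c' (-1), L⁆ := by
  have main : ∀ c d : I, lev c ≠ lev a → lev d ≠ lev a → lev d ≠ lev c →
      ⁅B.hL a c (-1), L⁆ = ⁅B.hL a (bar d) (-1), L⁆ := by
    intro c d hc hd hdc
    rw [show B.hL a c (-1) = B.hL a (bar d) (-1) * B.hL d c (-1) from
      congrArg Subtype.val (h_rel B.D hc.symm hd.symm hdc (neg_ne_zero.2 one_ne_zero)).symm]
    have hcomm := B.hL_L_away hdc hd hc (-1) hL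
    rw [show ⁅B.hL a (bar d) (-1) * B.hL d c (-1), L⁆ = B.hL a (bar d) (-1) * ⁅B.hL d c (-1), L⁆ *
      (B.hL a (bar d) (-1))⁻¹ * ⁅B.hL a (bar d) (-1), L⁆ by simp only [commutatorElement_def]; group,
      commutatorElement_eq_one_iff_commute.2 hcomm, mul_one, mul_inv_cancel, one_mul]
  by_cases h : lev c' = lev c
  · obtain ⟨d, hda, hdc⟩ := B.exists_third a c
    rw [main c d hc hda hdc, main (bar d) (bar c') (by rwa [lev_bar]) (by rwa [lev_bar])
      (by rw [lev_bar, lev_bar, h]; exact hdc.symm), bar_bar]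
  · have := main c (bar c') hc (by rwa [lev_bar]) (by rwa [lev_bar])
    rwa [bar_bar] at this

theorem Y_eq {a c : I} (hc : lev c ≠ lev a) {L : Γ} {t : F} (hL : B.σ L = sh a (-t / 2)) :
    B.Y a t = ⁅B.hL a c (-1), L⁆ := by
  rw [Y, br_indep B.central rfl (show B.σ (B.L a (-t / 2)) = B.σ L by rw [B.σ_L, hL])]
  exact B.br_hL (B.exists_third a a).choose_spec.1 hc hL

theorem σ_Y (a : I) (t : F) : B.σ (B.Y a t) = sh a t := by
  obtain ⟨c, hc, -⟩ := B.exists_third a a
  have h2 := B.odd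
  rw [B.Y_eq hc (B.σ_L a _), map_commutatorElement, B.σ_L, commutatorElement_def,
    (B.isMB_hL hc.symm (neg_ne_zero.2 one_ne_zero)).conj_sh, sh_inv, Equiv.Perm.one_apply, Odd.sh_mul]
  congr 1
  simp only [true_or, if_true]
  field_simp; ring

theorem Y_zero (a : I) : B.Y a (0 : F) = 1 := by
  obtain ⟨c, hc, -⟩ := B.exists_third a a
  rw [B.Y_eq hc (L := 1) (by rw [map_one, neg_zero, zero_div, sh_zero]), commutatorElement_one_right]

/-- Monomial elements permute the lifts of the short root elements. -/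
theorem Y_conj {g : Γ} {τ : Equiv.Perm I} {c : I → F} {ε : F} (h : IsMB (B.σ g) τ c ε) (a : I) (t : F) :
    g * B.Y a t * g⁻¹ = B.Y (τ a) (ε * c a * t) := by
  obtain ⟨d, hd, -⟩ := B.exists_third a a
  rw [B.Y_eq hd (B.σ_L a _), show g * ⁅B.hL a d (-1), B.L a (-t / 2)⁆ * g⁻¹ =
    ⁅g * B.hL a d (-1) * g⁻¹, g * B.L a (-t / 2) * g⁻¹⁆ by simp only [commutatorElement_def]; group,
    B.hL_conj h hd.symm (neg_ne_zero.2 one_ne_zero)]
  refine (B.Y_eq (h.ok hd) ?_).symm
  rw [B.conj_eq (B.σ_L a _), h.conj_sh]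
  congr 1; ring

theorem XL_Y_self {a c : I} (h : lev a ≠ lev c) (t u : F) : Commute (B.XL a c t) (B.Y a u) :=
  B.XL_L_self h t (B.σ_Y a u)

theorem XL_Y_away {a c d : I} (hcd : lev c ≠ lev d) (hc : lev c ≠ lev a) (hd : lev d ≠ lev a) (t u : F) :
    Commute (B.XL c d t) (B.Y a u) :=
  B.XL_L_away hcd hc hd t (B.σ_Y a u)

/-- A long and a short lift commute unless the long root involves the opposite index. -/
theorem XL_Y_comm {a c d : I} (hcd : lev c ≠ lev d) (hc : bar c ≠ a) (hd : bar d ≠ a) (t u : F) :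
    Commute (B.XL c d t) (B.Y a u) := by
  by_cases e1 : lev c = lev a
  · rcases lev_eq e1 with e | e
    · subst e; exact B.XL_Y_self hcd t u
    · exact absurd (by rw [e, bar_bar]) hc
  by_cases e2 : lev d = lev a
  · rcases lev_eq e2 with e | e
    · subst e; rw [B.XL_swap hcd.symm]; exact B.XL_Y_self hcd.symm _ u
    · exact absurd (by rw [e, bar_bar]) hd
  exact B.XL_Y_away hcd e1 e2 t u

/-- A short lift commutes with every lift of the same short root. -/
theorem Y_L_comm (a : I) (t u : F) {L : Γ} (hL : B.σ L = sh a u) : Commute (B.Y a t) L := by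
  obtain ⟨b, hb, -⟩ := B.exists_third a a
  have hab := hb.symm
  have habb : lev a ≠ lev (bar b) := by rwa [lev_bar]
  set X1 := B.XL a (bar b) u
  set X2 := B.XL a b (-(2 * t * 1))
  set X3 := B.XL a b (u * 1 ^ 2)
  set M := ⁅X1, B.L b 1⁆ with hM
  set Y0 := B.Y a t
  have c1 : Commute Y0 X1 := (B.XL_Y_self habb _ _).symm
  have c3 : Commute Y0 X3 := (B.XL_Y_self hab _ _).symm
  have hσM : B.σ M = B.σ (L * X3) := by
    rw [map_mul, hL, map_commutatorElement, B.σ_L, B.σ_XL (ok_of_lev habb), B.σ_XL (ok_of_lev hab),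
      el_sh_rel hab, mul_one]
  obtain ⟨z, hz, hM'⟩ : ∃ z, z ∈ Subgroup.center Γ ∧ M = L * X3 * z :=
    ⟨(L * X3)⁻¹ * M, B.central (by rw [MonoidHom.mem_ker, map_mul, map_inv, hσM, inv_mul_cancel]),
      (mul_inv_cancel_left _ _).symm⟩
  have c2M : Commute X2 M := by
    rw [hM']
    refine ((B.XL_L_self hab _ hL).mul_right ?_).mul_right (Subgroup.mem_center_iff.1 hz _)
    exact congrArg Subtype.val (X_self_comm B.D hab _ _)
  have hYM : Commute Y0 M := by
    obtain ⟨k, hk, e⟩ : ∃ k, k ∈ Subgroup.center Γ ∧ Y0 * B.L b 1 * Y0⁻¹ = k * (X2 * B.L b 1) := by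
      refine ⟨Y0 * B.L b 1 * Y0⁻¹ * (X2 * B.L b 1)⁻¹, B.central ?_, by group⟩
      rw [MonoidHom.mem_ker, map_mul, map_inv, map_mul, map_mul, map_mul, map_inv, B.σ_Y, B.σ_L,
        B.σ_XL (ok_of_lev hab), mul_inv_eq_one, ← sh_rel hab, commutatorElement_def]
      group
    have h12 : Commute X1 X2 := by
      have := X_opp B.D hab (-(2 * t * 1)) u
      exact (congrArg Subtype.val this).symm
    have : Y0 * M * Y0⁻¹ = M := by
      rw [hM, show Y0 * ⁅X1, B.L b 1⁆ * Y0⁻¹ = ⁅Y0 * X1 * Y0⁻¹, Y0 * B.L b 1 * Y0⁻¹⁆ by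
        simp only [commutatorElement_def]; group, c1.eq, mul_inv_cancel_right, e,
        br_indep B.central rfl (show B.σ (k * (X2 * B.L b 1)) = B.σ (X2 * B.L b 1) by
          rw [map_mul, show B.σ k = 1 by
            have h0 : B.σ (Y0 * B.L b 1 * Y0⁻¹) = B.σ (X2 * B.L b 1) := by
              rw [map_mul, map_mul, map_mul, map_inv, B.σ_Y, B.σ_L, B.σ_XL (ok_of_lev hab), ← sh_rel hab,
                commutatorElement_def]
              group
            rw [e, map_mul] at h0; exact mul_eq_right.1 h0, one_mul]),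
        show ⁅X1, X2 * B.L b 1⁆ = ⁅X1, X2⁆ * (X2 * ⁅X1, B.L b 1⁆ * X2⁻¹) by
          simp only [commutatorElement_def]; group,
        commutatorElement_eq_one_iff_commute.2 h12, one_mul, ← hM, c2M.eq, mul_inv_cancel_right]
    exact mul_inv_eq_iff_eq_mul.1 this
  have : L = M * z⁻¹ * X3⁻¹ := by rw [hM']; group
  rw [this]
  exact (hYM.mul_right ((Commute.inv_right (Subgroup.mem_center_iff.1 hz Y0)))).mul_right c3.inv_right

theorem Y_add (a : I) (t u : F) : B.Y a (t + u) = B.Y a t * B.Y a u := by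
  obtain ⟨c, hc, -⟩ := B.exists_third a a
  rw [B.Y_eq hc (L := B.L a (-t / 2) * B.L a (-u / 2)) (by
    rw [map_mul, B.σ_L, B.σ_L, Odd.sh_mul]; congr 1; ring)]
  rw [show ⁅B.hL a c (-1), B.L a (-t / 2) * B.L a (-u / 2)⁆ = ⁅B.hL a c (-1), B.L a (-t / 2)⁆ *
      (B.L a (-t / 2) * ⁅B.hL a c (-1), B.L a (-u / 2)⁆ * (B.L a (-t / 2))⁻¹) by
    simp only [commutatorElement_def]; group, ← B.Y_eq hc (B.σ_L a _), ← B.Y_eq hc (B.σ_L a _),
    ← (B.Y_L_comm a u _ (B.σ_L a (-t / 2))).eq, mul_inv_cancel_right]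

theorem Y_inv (a : I) (t : F) : (B.Y a t)⁻¹ = B.Y a (-t) :=
  inv_eq_of_mul_eq_one_right (by rw [← B.Y_add, add_neg_cancel, B.Y_zero])

/-- An additive central function that is even is trivial in odd characteristic. -/
theorem even_trivial (B : BExt F m Γ) {K : F → Γ} (hadd : ∀ v w, K (v + w) = K v * K w) (heven : ∀ v, K (-v) = K v) (t : F) :
    K t = 1 := by
  have h2 := B.odd
  have h0 : K 0 = 1 := by
    have := hadd 0 0; rw [add_zero] at this; exact left_eq_mul.1 this
  rw [show t = t / 2 + t / 2 by field_simp; ring, hadd]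
  nth_rewrite 2 [← heven]
  rw [← hadd, add_neg_cancel, h0]

/-- The commutator of two short lifts. -/
theorem Y_rel {a b : I} (h : lev a ≠ lev b) (t u : F) :
    ⁅B.Y a t, B.Y b u⁆ = B.XL a b (-(2 * t * u)) := by
  obtain ⟨K, hK⟩ : ∃ K : F → Γ, ∀ v, K v = ⁅B.Y a v, B.Y b u⁆ * (B.XL a b (-(2 * v * u)))⁻¹ :=
    ⟨_, fun _ => rfl⟩
  have hKc : ∀ v y, y * K v = K v * y := fun v => Subgroup.mem_center_iff.1 (B.central (by
    rw [hK, MonoidHom.mem_ker, map_mul, map_inv, map_commutatorElement, B.σ_Y, B.σ_Y, B.σ_XL (ok_of_lev h),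
      sh_rel h, mul_inv_cancel]))
  have hexp : ∀ v, ⁅B.Y a v, B.Y b u⁆ = K v * B.XL a b (-(2 * v * u)) := fun v => by rw [hK, inv_mul_cancel_right]
  have hadd : ∀ v w, K (v + w) = K v * K w := fun v w => by
    have e : ⁅B.Y a (v + w), B.Y b u⁆ = K v * K w * B.XL a b (-(2 * (v + w) * u)) := by
      rw [B.Y_add, show ⁅B.Y a v * B.Y a w, B.Y b u⁆ =
        B.Y a v * ⁅B.Y a w, B.Y b u⁆ * (B.Y a v)⁻¹ * ⁅B.Y a v, B.Y b u⁆ by
          simp only [commutatorElement_def]; group, hexp, hexp,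
        show -(2 * (v + w) * u) = -(2 * w * u) + -(2 * v * u) by ring, B.XL_add h,
        show B.Y a v * (K w * B.XL a b (-(2 * w * u))) = K w * B.XL a b (-(2 * w * u)) * B.Y a v by
          rw [← mul_assoc, hKc w, mul_assoc, ← (B.XL_Y_self h _ _).eq]; simp only [mul_assoc],
        mul_inv_cancel_right,
        mul_assoc (K w), ← mul_assoc (B.XL a b (-(2 * w * u))), hKc v (B.XL a b (-(2 * w * u)))]
      rw [mul_assoc (K v) (B.XL a b _), ← mul_assoc (K w), ← hKc w (K v)]
    rw [hK (v + w), e, mul_inv_cancel_right]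
  have heven : ∀ v, K (-v) = K v := fun v => by
    obtain ⟨d, hda, hdb⟩ := B.exists_third a b
    have hmon := B.isMB_hL hda.symm (neg_ne_zero.2 one_ne_zero : (-1 : F) ≠ 0)
    have b1 : b ≠ a := fun e => h (by rw [e])
    have b2 : b ≠ d := fun e => hdb (by rw [e])
    have b3 : b ≠ bar a := fun e => h (by rw [e, lev_bar])
    have b4 : b ≠ bar d := fun e => hdb (by rw [e, lev_bar])
    set g := B.hL a d (-1)
    calc K (-v) = ⁅g * B.Y a v * g⁻¹, g * B.Y b u * g⁻¹⁆ * (g * B.XL a b (-(2 * v * u)) * g⁻¹)⁻¹ := by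
          rw [B.Y_conj hmon, B.Y_conj hmon, B.XL_conj hmon h]
          simp [hK, b1, b2, b3, b4]
      _ = g * K v * g⁻¹ := by simp only [hK, commutatorElement_def]; group
      _ = K v := by rw [hKc v g, mul_inv_cancel_right]
  rw [hexp t, B.even_trivial hadd heven t, one_mul]

/-- The commutator of a long and a short lift. -/
theorem XL_Y_rel {a b : I} (h : lev a ≠ lev b) (u t : F) :
    ⁅B.XL a (bar b) u, B.Y b t⁆ = B.Y a (u * t) * B.XL a b (u * t ^ 2) := by
  have hb' : lev a ≠ lev (bar b) := by rwa [lev_bar]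
  obtain ⟨K, hK⟩ : ∃ K : F → Γ, ∀ v,
      K v = ⁅B.XL a (bar b) v, B.Y b t⁆ * (B.Y a (v * t) * B.XL a b (v * t ^ 2))⁻¹ := ⟨_, fun _ => rfl⟩
  have hKc : ∀ v y, y * K v = K v * y := fun v => Subgroup.mem_center_iff.1 (B.central (by
    rw [hK, MonoidHom.mem_ker, map_mul, map_inv, map_mul, map_commutatorElement, B.σ_Y, B.σ_Y,
      B.σ_XL (ok_of_lev hb'), B.σ_XL (ok_of_lev h), el_sh_rel h, mul_inv_cancel]))
  have hexp : ∀ v, ⁅B.XL a (bar b) v, B.Y b t⁆ = K v * (B.Y a (v * t) * B.XL a b (v * t ^ 2)) :=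
    fun v => by rw [hK, inv_mul_cancel_right]
  have hadd : ∀ v w, K (v + w) = K v * K w := fun v w => by
    have hxp : Commute (B.XL a (bar b) v) (B.Y a (w * t) * B.XL a b (w * t ^ 2)) :=
      (B.XL_Y_self hb' _ _).mul_right
        (congrArg Subtype.val (X_opp B.D h (w * t ^ 2) v).symm)
    have hpq : B.Y a (w * t) * B.XL a b (w * t ^ 2) * (B.Y a (v * t) * B.XL a b (v * t ^ 2)) =
        B.Y a ((v + w) * t) * B.XL a b ((v + w) * t ^ 2) := by
      rw [show (v + w) * t = w * t + v * t by ring, show (v + w) * t ^ 2 = w * t ^ 2 + v * t ^ 2 by ring,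
        B.Y_add, B.XL_add h, mul_assoc, ← mul_assoc (B.XL a b (w * t ^ 2)),
        (B.XL_Y_self h (w * t ^ 2) (v * t)).eq]
      group
    have e : ⁅B.XL a (bar b) (v + w), B.Y b t⁆ =
        K v * K w * (B.Y a ((v + w) * t) * B.XL a b ((v + w) * t ^ 2)) := by
      rw [B.XL_add hb', show ⁅B.XL a (bar b) v * B.XL a (bar b) w, B.Y b t⁆ = B.XL a (bar b) v *
        ⁅B.XL a (bar b) w, B.Y b t⁆ * (B.XL a (bar b) v)⁻¹ * ⁅B.XL a (bar b) v, B.Y b t⁆ by
          simp only [commutatorElement_def]; group, hexp, hexp, ← hpq,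
        show B.XL a (bar b) v * (K w * (B.Y a (w * t) * B.XL a b (w * t ^ 2))) =
          K w * (B.Y a (w * t) * B.XL a b (w * t ^ 2)) * B.XL a (bar b) v by
          rw [← mul_assoc, hKc w, mul_assoc, hxp.eq]; simp only [mul_assoc],
        mul_inv_cancel_right,
        mul_assoc (K w), ← mul_assoc (B.Y a (w * t) * B.XL a b (w * t ^ 2)), hKc v (B.Y a (w * t) * _)]
      rw [mul_assoc (K v) (B.Y a (w * t) * _), ← mul_assoc (K w), ← hKc w (K v)]
    rw [hK (v + w), e, mul_inv_cancel_right]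
  have heven : ∀ v, K (-v) = K v := fun v => by
    obtain ⟨d, hda, hdb⟩ := B.exists_third a b
    have hmon := B.isMB_hL hda.symm (neg_ne_zero.2 one_ne_zero : (-1 : F) ≠ 0)
    have b1 : b ≠ a := fun e => h (by rw [e])
    have b2 : b ≠ d := fun e => hdb (by rw [e])
    have b3 : b ≠ bar a := fun e => h (by rw [e, lev_bar])
    have b4 : b ≠ bar d := fun e => hdb (by rw [e, lev_bar])
    have c1 : bar b ≠ a := fun e => h (by rw [← e, lev_bar])
    have c2 : bar b ≠ d := fun e => hdb (by rw [← e, lev_bar])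
    have c3 : bar b ≠ bar a := fun e => b1 (bar_inj e)
    have c4 : bar b ≠ bar d := fun e => b2 (bar_inj e)
    set g := B.hL a d (-1)
    calc K (-v) = ⁅g * B.XL a (bar b) v * g⁻¹, g * B.Y b t * g⁻¹⁆ *
          (g * B.Y a (v * t) * g⁻¹ * (g * B.XL a b (v * t ^ 2) * g⁻¹))⁻¹ := by
          rw [B.Y_conj hmon, B.Y_conj hmon, B.XL_conj hmon h, B.XL_conj hmon hb']
          simp [hK, b1, b2, b3, b4, c1, c2, c3, c4]
      _ = g * K v * g⁻¹ := by simp only [hK, commutatorElement_def]; group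
      _ = K v := by rw [hKc v g, mul_inv_cancel_right]
  rw [hexp u, B.even_trivial hadd heven u, one_mul]

end BExt

end Cfsg.Agent.DMult
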