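import Cfsg.Agent.DMult.Main
import Cfsg.Agent.DMult.Odd.Kernel

/-!
A central extension of the split odd-dimensional `Ω` acting on spinors, in which the candidate kernel element is
not trivial.
-/

set_option autoImplicit false
set_option linter.unusedSectionVars false
set_option linter.unusedSimpArgs false

open Matrix
open scoped commutatorElement

namespace Cfsg.Agent.DMult.OddSpin

open Chev.Ortho
open Chev.Ortho.Odd (OB sh hy)
open CurtisTitsD (ok_of_lev lev_ne_of_ok)
open Spin (Sp γ Γv U nm mn)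
open OddGp

universe u

variable {F : Type u} [Field F] [Fintype F] {m : ℕ}

local notation "I" => Fin m ⊕ Fin m

/-- The operator of the extra coordinate: the grade involution. -/
noncomputable def eps : Module.End F (Sp F m) :=
  (CliffordAlgebra.involute : Sp F m →ₐ[F] Sp F m).toLinearMap

theorem eps_apply (x : Sp F m) : (eps : Module.End F (Sp F m)) x = CliffordAlgebra.involute x := rfl

theorem eps_sq : (eps * eps : Module.End F (Sp F m)) = 1 :=
  LinearMap.ext fun x => CliffordAlgebra.involute_involute x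

theorem eps_γ (a : I) : (eps * γ a : Module.End F (Sp F m)) = -(γ a * eps) := by
  refine LinearMap.ext fun x => ?_
  rw [LinearMap.neg_apply, Module.End.mul_apply, Module.End.mul_apply, eps_apply, eps_apply]
  rcases a with i | i
  · rw [Spin.γ_inl, Spin.γ_inl, map_mul, ← neg_mul]
    congr 1
    exact CliffordAlgebra.involute_ι _
  · rw [Spin.γ_inr, Spin.γ_inr]
    induction x using CliffordAlgebra.left_induction with
    | algebraMap r =>
      simp [CliffordAlgebra.contractLeft_algebraMap, AlgHom.commutes]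
    | add x y hx hy => simp only [map_add, hx, hy, neg_add]
    | ι_mul x v hx =>
      rw [CliffordAlgebra.contractLeft_ι_mul, map_sub, map_mul, map_smul, map_mul,
        CliffordAlgebra.involute_ι, hx, neg_mul, neg_mul, map_neg, CliffordAlgebra.contractLeft_ι_mul]
      simp only [mul_neg]
      abel

/-- The linear map from the orthogonal space. -/
noncomputable def Γw (x : Unit ⊕ (Fin m ⊕ Fin m) → F) : Module.End F (Sp F m) :=
  Γv (hy x) + x (.inl ()) • eps

theorem Γw_single (a : I) : Γw (Pi.single (.inr a) (1 : F)) = γ a := by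
  rw [Γw, Odd.hy_single, Spin.Γv_single, one_smul, Pi.single_eq_of_ne (by simp), zero_smul, add_zero]

theorem Γw_e0 : Γw (Pi.single (.inl ()) (1 : F) : Unit ⊕ (Fin m ⊕ Fin m) → F) = eps := by
  have e : hy (Pi.single (Sum.inl ()) (1 : F) : Unit ⊕ (Fin m ⊕ Fin m) → F) = 0 := by
    funext j; simp [hy]
  rw [Γw, e, Pi.single_eq_same, one_smul, Spin.Γv]
  simp

/-- The nilpotent operator of a short root. -/
noncomputable def P (a : Fin m ⊕ Fin m) : Module.End F (Sp F m) := γ a * eps

theorem P_sq (a : I) : (P a * P a : Module.End F (Sp F m)) = 0 := by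
  rw [P, mul_assoc, ← mul_assoc eps, eps_γ, nm, mul_assoc (γ a) eps, eps_sq, mul_one, mn, Spin.γ_sq, neg_zero]

/-- The lift of a short root element. -/
noncomputable def S (a : Fin m ⊕ Fin m) (t : F) : (Module.End F (Sp F m))ˣ where
  val := 1 - t • P a
  inv := 1 + t • P a
  val_inv := by simp [sub_mul, mul_add, P_sq]
  inv_val := by simp [add_mul, mul_sub, P_sq]

theorem S_val (a : I) (t : F) : (S a t : Module.End F (Sp F m)) = 1 - t • P a := rfl

theorem S_inv_val (a : I) (t : F) :
    (((S a t)⁻¹ : (Module.End F (Sp F m))ˣ) : Module.End F (Sp F m)) = 1 + t • P a := rfl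

theorem conj_gen (a : I) (t : F) {X R W : Module.End F (Sp F m)} (h1 : P a * X = X * P a + R)
    (h2 : R * P a = W) :
    (S a t : Module.End F (Sp F m)) * X * (((S a t)⁻¹ : (Module.End F (Sp F m))ˣ) : Module.End F (Sp F m)) =
      X - t • R - (t * t) • W := by
  have h3 : P a * X * P a = W := by rw [h1, add_mul, mul_assoc, P_sq, mul_zero, zero_add, h2]
  rw [S_val, S_inv_val]
  calc (1 - t • P a) * X * (1 + t • P a) = X - t • (P a * X) + t • (X * P a) - (t * t) • (P a * X * P a) := by
        simp only [sub_mul, mul_add, one_mul, mul_one, smul_mul_assoc, mul_smul_comm, smul_smul, smul_sub, smul_add]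
        abel
    _ = _ := by rw [h3, h1, smul_add]; abel

theorem S_conj_γ (a c : I) (t : F) :
    (S a t : Module.End F (Sp F m)) * γ c * (((S a t)⁻¹ : (Module.End F (Sp F m))ˣ) : Module.End F (Sp F m)) =
      γ c + if c = bar a then t • eps - (t * t) • γ a else 0 := by
  have h1 : P a * γ c = γ c * P a + (-(if c = bar a then (eps : Module.End F (Sp F m)) else 0)) := by
    have hac : (γ a * γ c : Module.End F (Sp F m)) = (-(γ (F := F) c * γ a) + if c = bar a then 1 else 0 : Module.End F (Sp F m)) := by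
      rw [← Spin.car (F := F) a c]; abel
    rw [P, mul_assoc, eps_γ, mn, ← mul_assoc, hac, add_mul, nm, ite_mul, one_mul, zero_mul, neg_add, neg_neg,
      mul_assoc]
  have h2 : (-(if c = bar a then (eps : Module.End F (Sp F m)) else 0)) * P a =
      if c = bar a then γ a else 0 := by
    split_ifs
    · rw [P, nm, ← mul_assoc, eps_γ, nm, neg_neg, mul_assoc, eps_sq, mul_one]
    · rw [neg_zero, zero_mul]
  rw [conj_gen a t h1 h2]
  split_ifs <;> simp
  abel

theorem S_conj_eps (a : I) (t : F) :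
    (S a t : Module.End F (Sp F m)) * eps * (((S a t)⁻¹ : (Module.End F (Sp F m))ˣ) : Module.End F (Sp F m)) =
      eps - (2 * t) • γ a := by
  have h1 : P a * eps = eps * P a + ((2 : F) • γ a : Module.End F (Sp F m)) := by
    rw [P, mul_assoc, eps_sq, mul_one, ← mul_assoc, eps_γ, nm, mul_assoc, eps_sq, mul_one, two_smul]
    abel
  have h2 : ((2 : F) • γ a : Module.End F (Sp F m)) * P a = 0 := by
    rw [smul_mul_assoc, P, ← mul_assoc, Spin.γ_sq, zero_mul, smul_zero]
  rw [conj_gen a t h1 h2, smul_zero, sub_zero, smul_smul, mul_comm t]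

theorem Γw_sh (a : I) (t : F) (x : Unit ⊕ (Fin m ⊕ Fin m) → F) :
    (S a t : Module.End F (Sp F m)) * Γw x * (((S a t)⁻¹ : (Module.End F (Sp F m))ˣ) : Module.End F (Sp F m)) =
      Γw (Odd.act (sh a t) x) := by
  rw [Γw, Γw, mul_add, add_mul, mul_smul_comm, smul_mul_assoc, S_conj_eps, Spin.Γv, Finset.mul_sum,
    Finset.sum_mul]
  simp only [mul_smul_comm, smul_mul_assoc, S_conj_γ, smul_add, Finset.sum_add_distrib, smul_ite, smul_zero,
    Finset.sum_ite_eq', Finset.mem_univ, if_true]
  have e : hy (Odd.act (sh a t) x) =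
      hy x + (Pi.single a (-(2 * t * x (.inl ()) + t ^ 2 * x (.inr (bar a)))) : Fin m ⊕ Fin m → F) := by
    funext i
    simp only [hy, Pi.add_apply, Pi.single_apply, sh_apply_inr]
    split_ifs <;> ring
  rw [e, Spin.Γv_add, Spin.Γv_single, sh_apply_inl, Spin.Γv]
  simp only [hy]
  module

variable (F m) in
/-- The set of paired generators. -/
def gens : Set (OB F m × (Module.End F (Sp F m))ˣ) :=
  {p | (∃ (a b : Fin m ⊕ Fin m) (h : Ok a b) (t : F), p = (Odd.emb (el h t), U a b t)) ∨
    ∃ (a : Fin m ⊕ Fin m) (t : F), p = (sh a t, S a t)}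

variable (F m) in
/-- The spin group. -/
noncomputable def G : Subgroup (OB F m × (Module.End F (Sp F m))ˣ) := Subgroup.closure (gens F m)

/-- The compatibility of the two components. -/
def Compat (p : OB F m × (Module.End F (Sp F m))ˣ) : Prop :=
  ∀ x, (p.2 : Module.End F (Sp F m)) * Γw x * ((p.2⁻¹ : (Module.End F (Sp F m))ˣ) : Module.End F _) =
    Γw (Odd.act p.1 x)

theorem U_eps {a b : I} (h : lev a ≠ lev b) (t : F) : Commute (U a b t : Module.End F (Sp F m)) eps := by
  rw [Spin.U_val h]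
  refine ((Commute.one_right _).add_right ?_).symm
  refine Commute.smul_right (?_ : eps * (γ a * γ b) = γ a * γ b * eps) t
  rw [← mul_assoc, eps_γ, nm, mul_assoc, eps_γ, mn, neg_neg, ← mul_assoc]

theorem compat_mem {p : OB F m × (Module.End F (Sp F m))ˣ} (hp : p ∈ G F m) : Compat p := by
  refine Subgroup.closure_induction ?_ ?_ ?_ ?_ hp
  · rintro _ (⟨a, b, h, t, rfl⟩ | ⟨a, t, rfl⟩) x
    · have hU : ((U a b t : (Module.End F (Sp F m))ˣ) : Module.End F (Sp F m)) * Γv (hy x) *
          (((U a b t)⁻¹ : (Module.End F (Sp F m))ˣ) : Module.End F (Sp F m)) = Γv (act (el h t) (hy x)) :=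
        Spin.compat_mem (p := (el h t, U a b t)) (Subgroup.subset_closure ⟨a, b, h, t, rfl⟩) (hy x)
      simp only
      rw [Γw, Γw, Odd.hy_emb, Odd.emb_inl, mul_add, add_mul, hU, mul_smul_comm, smul_mul_assoc,
        (U_eps (lev_ne_of_ok h) t).eq, mul_assoc, ← Units.val_mul, mul_inv_cancel, Units.val_one, mul_one]
    · exact Γw_sh a t x
  · intro x; simp [Odd.act_one]
  · intro p q _ _ hp hq x
    rw [Prod.snd_mul, Prod.fst_mul, _root_.mul_inv_rev, Units.val_mul, Units.val_mul, Odd.act_mul, ← hp, ← hq]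
    simp only [mul_assoc]
  · intro p _ hp x
    have := hp (Odd.act p.1⁻¹ x)
    rw [← Odd.act_mul, mul_inv_cancel, Odd.act_one] at this
    rw [Prod.snd_inv, Prod.fst_inv, inv_inv, ← this]
    simp [mul_assoc]

/-- The projection. -/
noncomputable def σ : G F m →* OB F m := (MonoidHom.fst _ _).comp (G F m).subtype

theorem σ_ker_central : (σ (F := F) (m := m)).ker ≤ Subgroup.center (G F m) := by
  rintro ⟨p, hp⟩ h1
  change p.1 = 1 at h1
  have hγ : ∀ c, Commute (p.2 : Module.End F (Sp F m)) (γ c) := fun c => by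
    have := compat_mem hp (Pi.single (.inr c) 1)
    rwa [h1, Odd.act_one, Γw_single, Units.mul_inv_eq_iff_eq_mul] at this
  have hε : Commute (p.2 : Module.End F (Sp F m)) eps := by
    have := compat_mem hp (Pi.single (.inl ()) 1)
    rwa [h1, Odd.act_one, Γw_e0, Units.mul_inv_eq_iff_eq_mul] at this
  refine Subgroup.mem_center_iff.2 fun q => ?_
  obtain ⟨q, hq⟩ := q
  refine Subtype.ext ?_
  show q * p = p * q
  refine Subgroup.closure_induction (p := fun q _ => q * p = p * q) ?_ (by simp) ?_ ?_ hq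
  · rintro _ (⟨a, b, h, t, rfl⟩ | ⟨a, t, rfl⟩) <;> refine Prod.ext (by simp [h1]) (Units.ext ?_)
    · simp only [Prod.snd_mul, Units.val_mul, Spin.U_val (lev_ne_of_ok h)]
      exact ((Commute.one_right _).add_right (((hγ a).mul_right (hγ b)).smul_right t)).symm.eq
    · simp only [Prod.snd_mul, Units.val_mul, S_val]
      exact ((Commute.one_right _).sub_right (((hγ a).mul_right hε).smul_right t)).symm.eq
  · intro x y _ _ hx hy; exact (Commute.mul_left (a := x) (b := y) hx hy).eq
  · intro x _ hx; exact (Commute.inv_left (a := x) hx).eq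

instance finite_G : Finite (G F m) := inferInstance

/-- The long generators. -/
noncomputable def gL {a b : Fin m ⊕ Fin m} (h : Ok a b) (t : F) : G F m :=
  ⟨(Odd.emb (el h t), U a b t), Subgroup.subset_closure (Or.inl ⟨a, b, h, t, rfl⟩)⟩

/-- The short generators. -/
noncomputable def gS (a : Fin m ⊕ Fin m) (t : F) : G F m :=
  ⟨(sh a t, S a t), Subgroup.subset_closure (Or.inr ⟨a, t, rfl⟩)⟩

/-- The embedding of the even spin group. -/
noncomputable def incl : Spin.G F m →* G F m :=
  (((Odd.emb (F := F) (m := m)).prodMap (MonoidHom.id _)).comp (Spin.G F m).subtype).codRestrict (G F m) fun x => by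
    have hle : Spin.G F m ≤ (G F m).comap ((Odd.emb (F := F) (m := m)).prodMap (MonoidHom.id _)) := by
      rw [Spin.G, Subgroup.closure_le]
      rintro _ ⟨a, b, h, t, rfl⟩
      exact Subgroup.subset_closure (Or.inl ⟨a, b, h, t, rfl⟩)
    exact hle x.2

theorem incl_injective : Function.Injective (incl (F := F) (m := m)) := fun x y e => by
  have e' : ((Odd.emb x.1.1, x.1.2) : OB F m × (Module.End F (Sp F m))ˣ) = (Odd.emb y.1.1, y.1.2) :=
    congrArg Subtype.val e
  exact Subtype.ext (Prod.ext (BExt.emb_injective (congrArg Prod.fst e')) (congrArg (fun q => q.2) e'))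

variable (F) in
/-- The extension. -/
noncomputable def ext (hm : 3 ≤ m) (h2 : (2 : F) ≠ 0) (hbig : 4 ≤ m ∨ ∃ c : F, c ≠ 0 ∧ c * c ≠ 1) :
    BExt F m (G F m) where
  σ := σ
  central := σ_ker_central
  el_mem _ _ h t := ⟨gL h t, rfl⟩
  sh_mem a t := ⟨gS a t, rfl⟩
  three := hm
  odd := h2
  big := hbig

variable (hm : 3 ≤ m) (h2 : (2 : F) ≠ 0) (hbig : 4 ≤ m ∨ ∃ c : F, c ≠ 0 ∧ c * c ≠ 1)

/-- Conjugation by the torus negates a short generator. -/
theorem hL_conj_gS {a c : I} (hc : lev c ≠ lev a) (t : F) :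
    (ext F hm h2 hbig).hL a c (-1) * gS a t * ((ext F hm h2 hbig).hL a c (-1))⁻¹ = gS a (-t) := by
  have hmon : IsMB (σ ((ext F hm h2 hbig).hL a c (-1))) _ _ _ :=
    (ext F hm h2 hbig).isMB_hL (Ne.symm hc) (neg_ne_zero.2 one_ne_zero)
  generalize (ext F hm h2 hbig).hL a c (-1) = g at hmon ⊢
  have hC := compat_mem g.2
  have hga := hC (Pi.single (.inr a) 1)
  have hge := hC (Pi.single (.inl ()) 1)
  rw [show Odd.act g.1.1 (Pi.single (.inr a) 1) = -Pi.single (.inr a) 1 by
    have := hmon.2.2.2.1 a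
    simpa [σ, Pi.single_neg] using this] at hga
  rw [show Odd.act g.1.1 (Pi.single (.inl ()) 1) = Pi.single (.inl ()) 1 from hmon.2.2.2.2,
    Γw_e0] at hge
  rw [Γw_single, show Γw (-Pi.single (.inr a) (1 : F)) = -(γ a : Module.End F (Sp F m)) by
    rw [← neg_one_smul F (Pi.single (Sum.inr a) (1 : F) : Unit ⊕ (Fin m ⊕ Fin m) → F), Γw,
      show hy ((-1 : F) • Pi.single (Sum.inr a) (1 : F) : Unit ⊕ (Fin m ⊕ Fin m) → F) = Pi.single a (-1) by
        funext j; simp [hy, Pi.single_apply],
      Spin.Γv_single]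
    simp only [Pi.smul_apply, Pi.single_eq_of_ne (show (Sum.inl () : Unit ⊕ (Fin m ⊕ Fin m)) ≠ .inr a by simp), smul_zero, zero_smul, add_zero]
    exact neg_one_smul F (γ a : Module.End F (Sp F m))] at hga
  refine Subtype.ext (Prod.ext ?_ (Units.ext ?_))
  · show g.1.1 * sh a t * g.1.1⁻¹ = sh a (-t)
    rw [show g.1.1 = σ g from rfl, hmon.conj_sh]
    simp
  · simp only [Subgroup.coe_mul, Subgroup.coe_inv, Prod.snd_mul, Prod.snd_inv, Units.val_mul, gS, S_val]
    have hPc : (g.1.2 : Module.End F (Sp F m)) * P a *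
        ((g.1.2⁻¹ : (Module.End F (Sp F m))ˣ) : Module.End F (Sp F m)) = -(P a : Module.End F (Sp F m)) := by
      calc _ = (g.1.2 : Module.End F (Sp F m)) * γ a * ((g.1.2⁻¹ : (Module.End F (Sp F m))ˣ) : Module.End F (Sp F m)) *
            ((g.1.2 : Module.End F (Sp F m)) * eps * ((g.1.2⁻¹ : (Module.End F (Sp F m))ˣ) : Module.End F (Sp F m))) := by
            simp only [P, mul_assoc, Units.inv_mul_cancel_left]
        _ = _ := by rw [hga, hge, nm]; rfl
    rw [mul_sub, mul_one, sub_mul, Units.mul_inv, mul_smul_comm, smul_mul_assoc, hPc, smul_neg]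
    exact congrArg _ (neg_smul t (P a : Module.End F (Sp F m))).symm

include hm h2 hbig in
/-- The spin group is perfect. -/
theorem perfect : commutator (G F m) = ⊤ := by
  refine top_le_iff.1 ?_
  rintro ⟨p, hp⟩ -
  refine Subgroup.closure_induction (p := fun q hq => (⟨q, hq⟩ : G F m) ∈ commutator (G F m))
    ?_ (one_mem _) (fun x y _ _ hx hy => mul_mem hx hy) (fun x _ hx => inv_mem hx) hp
  rintro _ (⟨a, b, h, t, rfl⟩ | ⟨a, t, rfl⟩)
  · have hle : (commutator (Spin.G F m)).map incl ≤ commutator (G F m) := by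
      rw [commutator_def, Subgroup.map_commutator, commutator_def]
      exact Subgroup.commutator_mono le_top le_top
    exact hle ⟨Spin.gel h t, (Spin.perfect hm).ge (Subgroup.mem_top _), rfl⟩
  · obtain ⟨c, hc, -⟩ := (ext F hm h2 hbig).exists_third a a
    have e : ⁅(ext F hm h2 hbig).hL a c (-1), gS a (-t / 2)⁆ = gS a t := by
      rw [commutatorElement_def, hL_conj_gS hm h2 hbig hc, mul_inv_eq_iff_eq_mul]
      refine Subtype.ext (Prod.ext ?_ (Units.ext ?_))
      · show sh a (-(-t / 2)) = sh a t * sh a (-t / 2)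
        rw [Odd.sh_mul]; congr 1; field_simp; ring
      · simp only [Subgroup.coe_mul, Prod.snd_mul, Units.val_mul, gS, S_val, sub_mul, mul_sub, one_mul, mul_one,
          smul_mul_smul_comm, P_sq, smul_zero, sub_zero]
        rw [sub_sub, ← add_smul]; congr 2; field_simp; ring
    show gS a t ∈ _
    rw [← e]
    exact Subgroup.commutator_mem_commutator (Subgroup.mem_top _) (Subgroup.mem_top _)

/-- The kernel element is not trivial. -/
theorem zzB_ne_one : (ext F hm h2 hbig).zzB ≠ 1 := by
  have hg : (m = 4 → Nat.card F ≠ 2) ∧ (m = 3 → (2 : F) ≠ 0) := ⟨fun _ h => h2 (by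
    have : Fintype F := Fintype.ofFinite F
    rw [Nat.card_eq_fintype_card] at h
    have : CharP F 2 := ringChar.of_eq (FiniteField.even_card_iff_char_two.2 (by rw [h]))
    exact CharTwo.two_eq_zero), fun _ => h2⟩
  let τ : Spin.G F m →* (ext F hm h2 hbig).DS :=
    incl.codRestrict (ext F hm h2 hbig).DS fun x => ⟨x.1.1, rfl⟩
  have hτ : ∀ x, (ext F hm h2 hbig).D.σ (τ x) = (Spin.ext F hm hg).σ x := fun x =>
    BExt.emb_injective ((ext F hm h2 hbig).emb_σD (τ x))
  intro hz
  refine Spin.zz_ne_one hm hg h2 (incl_injective ?_)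
  rw [map_one, ← hz, BExt.zzB, ← map_zz (Spin.ext F hm hg) (ext F hm h2 hbig).D τ hτ]
  rfl

end Cfsg.Agent.DMult.OddSpin
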