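import Cfsg.Agent.DMult.Odd.Setting

/-!
The projection is injective on the group generated by the lifts of the positive root elements, odd dimension.
-/

set_option autoImplicit false
set_option linter.unusedSectionVars false
set_option linter.unusedSimpArgs false

open Matrix
open scoped commutatorElement Pointwise

namespace Cfsg.Agent.DMult.BExt

open Chev.Ortho
open Chev.Ortho.Odd (OB sh)
open CurtisTitsD (ok_of_lev)
open OddGp

universe u

variable {F : Type u} [Field F] [Fintype F] {m : ℕ} {Γ : Type u} [Group Γ] [Finite Γ] (B : BExt F m Γ)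

local notation "I" => Fin m ⊕ Fin m

/-- The generators of the positive unipotent group of levels at least `k`. -/
def ugens (k : ℕ) : Set Γ :=
  {x | ∃ (i : Fin m) (t : F), k ≤ (i : ℕ) ∧
    ((∃ y : Fin m ⊕ Fin m, (i : ℕ) < lev y ∧ B.XL (Sum.inl i) y t = x) ∨ B.Y (Sum.inl i) t = x)}

/-- The positive unipotent group of levels at least `k`. -/
noncomputable def UB (k : ℕ) : Subgroup Γ := Subgroup.closure (B.ugens k)

/-- A row of positive roots with its short root. -/
noncomputable def RowB (k : Fin m) : Subgroup Γ :=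
  Subgroup.closure {x | ∃ t : F,
    (∃ y : Fin m ⊕ Fin m, (k : ℕ) < lev y ∧ B.XL (Sum.inl k) y t = x) ∨ B.Y (Sum.inl k) t = x}

theorem XL_mem_RowB {k : Fin m} {y : I} (h : (k : ℕ) < lev y) (t : F) : B.XL (Sum.inl k) y t ∈ B.RowB k :=
  Subgroup.subset_closure ⟨t, Or.inl ⟨y, h, rfl⟩⟩

theorem Y_mem_RowB (k : Fin m) (t : F) : B.Y (Sum.inl k) t ∈ B.RowB k :=
  Subgroup.subset_closure ⟨t, Or.inr rfl⟩

theorem rowB_conj {k i : Fin m} (hki : k < i) {x z : Γ}
    (hx : ∃ t, (∃ y : I, (k : ℕ) < lev y ∧ B.XL (Sum.inl k) y t = x) ∨ B.Y (Sum.inl k) t = x)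
    (hz : ∃ u, (∃ y : I, (i : ℕ) < lev y ∧ B.XL (Sum.inl i) y u = z) ∨ B.Y (Sum.inl i) u = z) :
    ⁅x, z⁆ ∈ B.RowB k := by
  have hki' : (k : ℕ) < i := hki
  have hkl : lev (Sum.inl k : I) ≠ lev (Sum.inl i : I) := ne_of_lt hki'
  obtain ⟨t, ⟨y, hy, rfl⟩ | rfl⟩ := hx
  · have hky : lev (Sum.inl k : I) ≠ lev y := lev_lt_ne hy
    obtain ⟨u, ⟨y', hy', rfl⟩ | rfl⟩ := hz
    · have hle : (Row B.D k).map B.DS.subtype ≤ B.RowB k := by
        rw [Row, MonoidHom.map_closure, Subgroup.closure_le]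
        rintro _ ⟨_, ⟨w, s, hw, rfl⟩, rfl⟩
        exact B.XL_mem_RowB hw s
      have h := row_conj B.D hki hy' hy t u
      have := hle ⟨_, h, rfl⟩
      rwa [map_commutatorElement] at this
    · by_cases e : y = bar (Sum.inl i : I)
      · subst e
        rw [B.XL_Y_rel hkl]
        exact mul_mem (B.Y_mem_RowB k _) (B.XL_mem_RowB hki' _)
      · rw [commutatorElement_eq_one_iff_commute.2 (B.XL_Y_comm hky (by simp [bar])
          (fun h => e (by rw [← h, bar_bar])) t u)]
        exact one_mem _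
  · obtain ⟨u, ⟨y', hy', rfl⟩ | rfl⟩ := hz
    · rw [commutatorElement_eq_one_iff_commute.2 (B.XL_Y_comm (lev_lt_ne hy') (by simp [bar])
        (fun h => ?_) u t).symm]
      · exact one_mem _
      · have := congrArg lev h
        rw [lev_bar] at this
        simp only [lev, Sum.elim_inl] at this hy' hki'
        omega
    · rw [B.Y_rel hkl]
      exact B.XL_mem_RowB hki' _

theorem UB_split {k : Fin m} {g : Γ} (hg : g ∈ B.UB (k : ℕ)) :
    ∃ r ∈ B.RowB k, ∃ v ∈ B.UB ((k : ℕ) + 1), g = r * v := by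
  have hnorm : B.UB ((k : ℕ) + 1) ≤ Subgroup.normalizer (B.RowB k : Set Γ) := by
    rw [UB, Subgroup.closure_le]
    rintro z ⟨i, u, hi, hz⟩
    refine CurtisTitsD.mem_normalizer_of_map_le ?_
    rw [RowB, MonoidHom.map_closure, Subgroup.closure_le]
    rintro _ ⟨x, hx, rfl⟩
    simp only [MulEquiv.coe_toMonoidHom, MulAut.conj_apply]
    rw [show z * x * z⁻¹ = ⁅x, z⁆⁻¹ * x by rw [commutatorElement_def]; group]
    exact mul_mem (inv_mem (B.rowB_conj (by rw [Fin.lt_def]; omega) hx ⟨u, hz⟩))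
      (Subgroup.subset_closure hx)
  have hle : B.UB (k : ℕ) ≤ B.RowB k ⊔ B.UB ((k : ℕ) + 1) := by
    conv_lhs => rw [UB]
    rw [Subgroup.closure_le]
    rintro x ⟨i, t, hi, hx⟩
    by_cases h : i = k
    · subst h; exact Subgroup.mem_sup_left (Subgroup.subset_closure ⟨t, hx⟩)
    · exact Subgroup.mem_sup_right (Subgroup.subset_closure
        ⟨i, t, by have := fun e => h (Fin.ext e); omega, hx⟩)
  have h2 : g ∈ ((B.RowB k : Set Γ) * (B.UB ((k : ℕ) + 1) : Set Γ)) := by
    rw [← Subgroup.coe_mul_of_right_le_normalizer_left _ _ hnorm]; exact hle hg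
  obtain ⟨r, hr, v, hv, e⟩ := h2
  exact ⟨r, hr, v, hv, e.symm⟩

open scoped _root_.Classical in
theorem rowB_inj {k : Fin m} {r : Γ} (hr : r ∈ B.RowB k)
    (h1 : Odd.act (B.σ r) (Pi.single (.inr (Sum.inr k)) 1) (.inl ()) = 0 ∧ ∀ y, (k : ℕ) < lev y →
      Odd.act (B.σ r) (Pi.single (.inr (Sum.inr k)) 1) (.inr y) = 0) : r = 1 := by
  let Z := Option {y : I // (k : ℕ) < lev y}
  let χ : ∀ _ : Z, Multiplicative F →* Γ := fun z =>
    match z with
    | none => MonoidHom.mk' (fun t => B.Y (Sum.inl k) t.toAdd) fun a b => B.Y_add _ a.toAdd b.toAdd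
    | some y => MonoidHom.mk' (fun t => B.XL (Sum.inl k) y.1 t.toAdd)
        fun a b => B.XL_add (lev_lt_ne y.2) a.toAdd b.toAdd
  have hpair : Pairwise fun i j => ∀ x y, Commute (χ i x) (χ j y) := by
    rintro (_ | i) (_ | j) hne x y
    · exact absurd rfl hne
    · exact (B.XL_Y_self (lev_lt_ne j.2) _ _).symm
    · exact B.XL_Y_self (lev_lt_ne i.2) _ _
    · exact congrArg Subtype.val (row_comm B.D i.2 j.2 x.toAdd y.toAdd)
  let Φ := MonoidHom.noncommPiCoprod χ hpair
  let ext' : (Z → Multiplicative F) → I → F :=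
    fun φ y => if h : (k : ℕ) < lev y then (φ (some ⟨y, h⟩)).toAdd else 0
  let P : (Z → Multiplicative F) → Prop := fun φ => ∀ v : Unit ⊕ I → F,
    Odd.act (B.σ (Φ φ)) v (.inr (Sum.inr k)) = v (.inr (Sum.inr k)) ∧
      Odd.act (B.σ (Φ φ)) v (.inl ()) = v (.inl ()) + (φ none).toAdd * v (.inr (Sum.inr k)) ∧
      ∀ y, (k : ℕ) < lev y →
        Odd.act (B.σ (Φ φ)) v (.inr y) = v (.inr y) - ext' φ y * v (.inr (Sum.inr k))
  have hP : ∀ φ, P φ := by
    intro φ
    rw [← Finset.univ_prod_mulSingle φ]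
    refine Finset.prod_induction _ P ?_ ?_ ?_
    · intro a b ha hb v
      rw [map_mul, map_mul]
      refine ⟨?_, ?_, fun y hy => ?_⟩
      · rw [Odd.act_mul, (ha _).1, (hb v).1]
      · rw [Odd.act_mul, (ha _).2.1, (hb v).1, (hb v).2.1]
        simp only [Pi.mul_apply, toAdd_mul]; ring
      · rw [Odd.act_mul, (ha _).2.2 y hy, (hb v).1, (hb v).2.2 y hy]
        simp only [ext', dif_pos hy, Pi.mul_apply, toAdd_mul]; ring
    · intro v
      rw [map_one, map_one, Odd.act_one]
      exact ⟨rfl, by simp, fun y hy => by simp [ext']⟩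
    · rintro (_ | i) _ v <;> rw [MonoidHom.noncommPiCoprod_mulSingle]
      · rw [show χ none (φ none) = B.Y (Sum.inl k) (φ none).toAdd from rfl, B.σ_Y]
        refine ⟨?_, ?_, fun y hy => ?_⟩
        · rw [sh_apply_inr, if_neg (by simp), sub_zero]
        · rw [sh_apply_inl, Pi.mulSingle_eq_same]; rfl
        · rw [sh_apply_inr, if_neg (fun e => by rw [e] at hy; exact lt_irrefl _ hy)]
          simp [ext', hy]
      · rw [show χ (some i) (φ (some i)) = B.XL (Sum.inl k) i.1 (φ (some i)).toAdd from rfl,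
          B.σ_XL (ok_of_lev (lev_lt_ne i.2))]
        refine ⟨?_, ?_, fun y hy => ?_⟩
        · rw [emb_el_inr, if_neg (by simp), if_neg]
          · simp
          · intro e; have := i.2; rw [← e] at this; exact lt_irrefl _ this
        · rw [emb_el_inl, Pi.mulSingle_eq_of_ne (by simp)]; simp
        · rw [emb_el_inr, if_neg (fun e => by rw [e] at hy; exact lt_irrefl _ hy)]
          simp only [ext', dif_pos hy, Pi.mulSingle_apply]
          by_cases e : y = i.1
          · subst e; rw [if_pos rfl, if_pos rfl]; simp [bar]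
          · rw [if_neg e, if_neg (fun e' => e (congrArg Subtype.val (Option.some_injective _ e')))]; simp
  have hΦ : B.RowB k ≤ Φ.range := by
    rw [RowB, Subgroup.closure_le]
    rintro _ ⟨t, ⟨y, hy, rfl⟩ | rfl⟩
    · exact ⟨Pi.mulSingle (some ⟨y, hy⟩) (Multiplicative.ofAdd t), MonoidHom.noncommPiCoprod_mulSingle ..⟩
    · exact ⟨Pi.mulSingle none (Multiplicative.ofAdd t), MonoidHom.noncommPiCoprod_mulSingle ..⟩
  obtain ⟨φ, rfl⟩ := hΦ hr
  have h0 : φ = 1 := by
    funext z
    obtain ⟨-, e0, ey⟩ := hP φ (Pi.single (.inr (Sum.inr k)) 1)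
    rcases z with _ | y
    · rw [h1.1, Pi.single_eq_same, Pi.single_eq_of_ne (by simp), zero_add, mul_one] at e0
      simpa using e0.symm
    · have hne : (Sum.inr y.1 : Unit ⊕ I) ≠ .inr (Sum.inr k) := fun e => by
        have := y.2; rw [Sum.inr_injective e] at this; exact lt_irrefl _ this
      have := ey y.1 y.2
      rw [h1.2 y.1 y.2, Pi.single_eq_of_ne hne, Pi.single_eq_same, mul_one, zero_sub, eq_comm, neg_eq_zero] at this
      simpa [ext', y.2] using this
  rw [h0, map_one]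

theorem UB_fix {k : ℕ} {g : Γ} (hg : g ∈ B.UB k) {x : I} (hx : lev x < k) :
    Odd.act (B.σ g) (Pi.single (.inr x) 1) = Pi.single (.inr x) 1 := by
  refine Subgroup.closure_induction ?_ ?_ ?_ ?_ hg
  · rintro _ ⟨i, t, hi, ⟨y, hy, rfl⟩ | rfl⟩
    · rw [B.σ_XL (ok_of_lev (lev_lt_ne hy))]
      refine Odd.emb_fix ?_
      refine el_fix _ t ?_ ?_
      · intro e; rw [e, lev_bar] at hx; exact absurd (lt_of_lt_of_le hx hi) (lt_irrefl _)
      · intro e; rw [e, lev_bar] at hx; omega
    · rw [B.σ_Y]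
      refine Odd.sh_fix _ t ?_
      intro e; rw [e, lev_bar] at hx; exact absurd (lt_of_lt_of_le hx hi) (lt_irrefl _)
  · rw [map_one, Odd.act_one]
  · intro a b _ _ ha hb; rw [map_mul, Odd.act_mul, hb, ha]
  · intro a _ ha
    conv_lhs => rw [← ha, ← Odd.act_mul, ← map_mul, inv_mul_cancel, map_one, Odd.act_one]

/-- The projection is injective on the positive unipotent group. -/
theorem UB_inj {k : ℕ} {g : Γ} (hg : g ∈ B.UB k) (h1 : B.σ g = 1) : g = 1 := by
  obtain ⟨d, hd⟩ : ∃ d, m ≤ k + d := ⟨m, by omega⟩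
  induction d generalizing k g with
  | zero =>
    have : B.UB k = ⊥ := by
      rw [UB, Subgroup.closure_eq_bot_iff]
      rintro _ ⟨i, t, hi, -⟩
      exact absurd i.2 (by omega)
    rwa [this, Subgroup.mem_bot] at hg
  | succ d ih =>
    by_cases hk : m ≤ k + d
    · exact ih hg h1 hk
    obtain ⟨r, hr, v, hv, rfl⟩ := B.UB_split (k := ⟨k, by omega⟩) hg
    have hv' : v ∈ B.UB (k + 1) := hv
    have e := B.UB_fix hv' (x := Sum.inr ⟨k, by omega⟩) (Nat.lt_succ_self k)
    have e2 : Odd.act (B.σ r) (Pi.single (.inr (Sum.inr ⟨k, by omega⟩)) 1) =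
        Pi.single (.inr (Sum.inr ⟨k, by omega⟩)) 1 := by
      have := congrArg (fun g => Odd.act g (Pi.single (.inr (Sum.inr (⟨k, by omega⟩ : Fin m))) 1)) h1
      simp only [map_mul, Odd.act_mul, Odd.act_one] at this
      rwa [e] at this
    have hr1 : r = 1 := by
      refine B.rowB_inj hr ⟨?_, fun y hy => ?_⟩
      · rw [e2, Pi.single_eq_of_ne (by simp)]
      · rw [e2, Pi.single_eq_of_ne]
        intro e'; rw [Sum.inr_injective e'] at hy; exact lt_irrefl _ hy
    subst hr1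
    rw [one_mul] at h1 ⊢
    exact ih hv' h1 (by omega)

end Cfsg.Agent.DMult.BExt
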